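import Cfsg.Agent.PushOdd.BlockSym
import Cfsg.Agent.LocalCGT.DegreeBase

/-!
# The action of `N(E)` on the section of a block inside an elementary abelian group

`V` contains the module `W` of the block `E` and lies in `W C(E)`, so it maps onto `W / C_W(E)`.
-/

set_option autoImplicit false
set_option linter.unusedSectionVars false
set_option linter.style.haveILetI false

namespace Cfsg.Agent.PushOdd

open Subgroup LocalCGT
open Baumann.Sub (SBlock bW bWE bZ bQ)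
open scoped commutatorElement

universe u

variable {G : Type u} [Group G] [Finite G]

/-- The section of a block seen from `V`. -/
structure BData (T : Sylow 2 G) (E V : Subgroup G) where
  Wt : Type
  fin : Finite Wt
  two_lt : 2 < Nat.card Wt
  θ : ↥V → Wt
  π : ↥(normalizer (E : Set G)) →* Equiv.Perm Wt
  θ_eq : ∀ v v', θ v = θ v' ↔ (v : G) * (v' : G)⁻¹ ∈ centralizer (E : Set G)
  θ_surj : ∀ w, ∃ v : ↥V, (v : G) ∈ bWE 2 E ∧ θ v = w
  spec : ∀ (x : ↥(normalizer (E : Set G))) (v v' : ↥V),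
    (v' : G) = x * v * (x : G)⁻¹ → π x (θ v) = θ v'
  triv : ∀ x, π x = 1 ↔ (x : G) ∈ centralizer (bWE 2 E : Set G)
  bound : ∀ Y : Subgroup ↥(normalizer (E : Set G)), (∀ y ∈ Y, (y : G) ∈ (T : Subgroup G)) →
    (∀ a ∈ Y, ∀ b ∈ Y, π a * π b = π b * π a) →
    Nat.card (Y.map π) * Nat.card {w : Wt | ∀ σ ∈ Y.map π, σ w = w} ≤ Nat.card Wt
  exact' : ∃ L : Set Wt, ∀ Y : Subgroup ↥(normalizer (E : Set G)),
    (∀ y ∈ Y, (y : G) ∈ (T : Subgroup G)) →
    (∀ a ∈ Y, ∀ b ∈ Y, π a * π b = π b * π a) →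
    (∀ k : ↥(normalizer (E : Set G)), (k : G) ∈ (T : Subgroup G) → ∀ y ∈ Y, k * y * k⁻¹ ∈ Y) →
    (∃ y ∈ Y, π y ≠ 1) →
    Nat.card Wt ≤ Nat.card (Y.map π) * Nat.card {w : Wt | ∀ σ ∈ Y.map π, σ w = w} →
    {w : Wt | ∀ σ ∈ Y.map π, σ w = w} = L ∧
      ∃ x ∈ Y, (∀ w, π x w = w → w ∈ L) ∧
        ∀ w ∈ L, ∃ (a : G) (b : ↥V), a ∈ bWE 2 E ∧ (b : G) = ⁅a, (x : G)⁆ ∧ θ b = w

variable {T : Sylow 2 G} {E V : Subgroup G}

/-- A block section gives the data. -/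
theorem bdata_of_sec {Wt : Type} [Finite Wt] (s : Sec 2 E Wt) (hb : s.Bound)
    (hx : SecExact T s) (h2 : 2 < Nat.card Wt) (hWV : bWE 2 E ≤ V)
    (hV : ∀ v ∈ V, ∃ w ∈ bWE 2 E, v * w⁻¹ ∈ centralizer (E : Set G)) :
    Nonempty (BData T E V) := by
  classical
  choose lw hlw hlc using fun v : ↥V => hV v v.2
  let θ : ↥V → Wt := fun v => s.g ⟨lw v, hlw v⟩
  have hθ : ∀ v v', θ v = θ v' ↔ (v : G) * (v' : G)⁻¹ ∈ centralizer (E : Set G) := by
    intro v v'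
    show s.g _ = s.g _ ↔ _
    rw [s.eq]
    have key : (v : G) * (v' : G)⁻¹ =
        ((v : G) * (lw v)⁻¹) * (lw v * (lw v')⁻¹) * ((v' : G) * (lw v')⁻¹)⁻¹ := by group
    constructor
    · intro h
      rw [key]
      exact mul_mem (mul_mem (hlc v) (mem_inf.1 h).2) (inv_mem (hlc v'))
    · intro h
      refine mem_inf.2 ⟨mul_mem (hlw v) (inv_mem (hlw v')), ?_⟩
      have h1 : lw v * (lw v')⁻¹ = ((v : G) * (lw v)⁻¹)⁻¹ * ((v : G) * (v' : G)⁻¹) *
          ((v' : G) * (lw v')⁻¹) := by group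
      show lw v * (lw v')⁻¹ ∈ centralizer (E : Set G)
      rw [h1]
      exact mul_mem (mul_mem (inv_mem (hlc v)) h) (hlc v')
  have hW : ∀ u : ↥(bWE 2 E), θ ⟨u, hWV u.2⟩ = s.g u := by
    intro u
    show s.g _ = s.g _
    rw [s.eq]
    refine mem_inf.2 ⟨mul_mem (hlw _) (inv_mem u.2), ?_⟩
    have := inv_mem (hlc ⟨u, hWV u.2⟩)
    rwa [mul_inv_rev, inv_inv] at this
  have hpg : ∀ Y : Subgroup ↥(normalizer (E : Set G)), (∀ y ∈ Y, (y : G) ∈ (T : Subgroup G)) →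
      IsPGroup 2 Y := fun Y hY =>
    (T.isPGroup'.comap_of_injective (normalizer (E : Set G)).subtype
      (normalizer (E : Set G)).subtype_injective).to_le fun y hy => hY y hy
  refine ⟨{ Wt := Wt, fin := inferInstance, two_lt := h2, θ := θ, π := s.π₀, θ_eq := hθ
            θ_surj := fun w => ?_, spec := fun x v v' h => ?_, triv := s.triv
            bound := fun Y hY hc => hb Y (hpg Y hY) hc, exact' := ?_ }⟩
  · obtain ⟨u, rfl⟩ := s.surj w
    exact ⟨⟨u, hWV u.2⟩, u.2, hW u⟩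
  · have hxW : (x : G) ∈ normalizer (bWE 2 E : Set G) := normalizer_le_normalizer_WE E x.2
    set u' : ↥(bWE 2 E) := ⟨(x : G) * lw v * (x : G)⁻¹, (mem_normalizer_iff.1 hxW _).1 (hlw v)⟩
      with hu'
    rw [show θ v' = θ ⟨u', hWV u'.2⟩ from (hθ _ _).2 ?_, hW]
    · exact s.spec x ⟨lw v, hlw v⟩ u' rfl
    · show (v' : G) * ((x : G) * lw v * (x : G)⁻¹)⁻¹ ∈ centralizer (E : Set G)
      rw [h, show (x : G) * v * (x : G)⁻¹ * ((x : G) * lw v * (x : G)⁻¹)⁻¹ =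
        (x : G) * ((v : G) * (lw v)⁻¹) * (x : G)⁻¹ by group]
      refine mem_centralizer_iff.2 fun e he => ?_
      have he' : (x : G)⁻¹ * e * x ∈ E := by
        have := (mem_normalizer_iff.1 (inv_mem x.2) e).1 he
        rwa [inv_inv] at this
      have hc := mem_centralizer_iff.1 (hlc v) _ he'
      calc e * ((x : G) * ((v : G) * (lw v)⁻¹) * (x : G)⁻¹)
          = (x : G) * (((x : G)⁻¹ * e * x) * ((v : G) * (lw v)⁻¹)) * (x : G)⁻¹ := by group
        _ = (x : G) * (((v : G) * (lw v)⁻¹) * ((x : G)⁻¹ * e * x)) * (x : G)⁻¹ := by rw [hc]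
        _ = _ := by group
  · obtain ⟨L, hL⟩ := hx
    refine ⟨L, fun Y hY hc hn hne hge => ?_⟩
    obtain ⟨h1, y, hy, hyfix, hyc⟩ := hL Y hY hc hn hne hge
    refine ⟨h1, y, hy, hyfix, fun w hw => ?_⟩
    obtain ⟨a, b, hab, hbw⟩ := hyc w hw
    exact ⟨a, ⟨b, hWV b.2⟩, a.2, hab, (hW b).trans hbw⟩

variable (hG : centralizer (Cfsg.pCore 2 G : Set G) ≤ Cfsg.pCore 2 G)
  (hblk : Cfsg.IsBaumannBlock 2 (T : Subgroup G) E)
  (hout : ¬ E ≤ Cfsg.cStarOf 2 (T : Subgroup G)) (hsub : E.IsSubnormal)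
  (hdeg : ∀ m : ℕ, Nonempty (↥E ⧸ Cfsg.pCore 2 ↥E ≃* ↥(alternatingGroup (Fin (2 * m + 1)))) →
    ∃ n : ℕ, 2 * m + 1 = 2 ^ n + 1)

include hG hblk hout hsub hdeg

/-- The data exist. -/
theorem exists_bdata (hWV : bWE 2 E ≤ V)
    (hV : ∀ v ∈ V, ∃ w ∈ bWE 2 E, v * w⁻¹ ∈ centralizer (E : Set G)) :
    Nonempty (BData T E V) := by
  have hS : SBlock 2 E := ⟨⟨T, hblk⟩, hsub⟩
  rcases exists_mod hG hblk hout with ⟨K, iK, iKt, n, hn, hq, ⟨r⟩⟩ | ⟨-, hQW, m, hm, ⟨r⟩⟩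
  · refine bdata_of_sec r.sec (r.bound hn) (lin_exact hsub hn hq r) ?_ hWV hV
    rw [Nat.card_eq_fintype_card, Fintype.card_fun, Fintype.card_fin, pow_two]
    nlinarith
  · let f : ↥E →* ↥(alternatingGroup (Fin (2 * m + 1))) :=
      (r.π.comp (inclusion Subgroup.le_normalizer)).codRestrict _ fun e =>
        r.image.le ⟨inclusion Subgroup.le_normalizer e, e.2, rfl⟩
    have hf : Function.Surjective f := fun a => by
      obtain ⟨e, he, hee⟩ := r.image.ge a.2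
      exact ⟨⟨e, he⟩, Subtype.ext hee⟩
    have hker : f.ker = Cfsg.pCore 2 ↥E := by
      ext e
      rw [MonoidHom.mem_ker]
      have hQ : e ∈ Cfsg.pCore 2 ↥E ↔ (e : G) ∈ bQ 2 E :=
        ⟨fun h => ⟨e, h, rfl⟩, fun ⟨z, hz, ez⟩ => (Subtype.ext ez : z = e) ▸ hz⟩
      rw [hQ]
      have hC : f e = 1 ↔ (e : G) ∈ centralizer (bWE 2 E : Set G) :=
        ⟨fun h => (r.triv _).1 (congrArg Subtype.val h :), fun h => Subtype.ext ((r.triv _).2 h)⟩
      rw [hC]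
      exact ⟨fun h => Baumann.Sub.mem_bQ_of_centralizes hG hS e.2 h, fun h =>
        centralizer_le (Baumann.Sub.WE_le_bW hS) (Baumann.Sub.bQ_le_centralizer_bW hS h)⟩
    obtain ⟨n, hn⟩ := hdeg m
      ⟨(QuotientGroup.quotientMulEquivOfEq hker.symm).trans
        (QuotientGroup.quotientKerEquivOfSurjective f hf)⟩
    refine bdata_of_sec (r.sec hm) (r.bound hm rfl) (sym_exact hsub hm (n := n) (by omega) r) ?_
      hWV hV
    have h := card_even_mul_two (N := 2 * m + 1) LocalCGT.odd_cast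
    have h4 : 2 ^ 3 ≤ 2 ^ (2 * m + 1) := Nat.pow_le_pow_right two_pos (by omega)
    omega

end Cfsg.Agent.PushOdd
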