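import Cfsg.Agent.LocalCGT.GlobalBlockIneq
import Cfsg.Agent.Baumann.Irreducible
import Cfsg.Agent.LocalStructure.CharP

/-!
# Equality in the block inequality: linear blocks

If an abelian group normalised by `T ⊓ N(E)` attains the bound on the natural module, then its fixed
space is the fixed line of a Sylow subgroup of `E`, and this line consists of commutators with one
element.
-/

set_option autoImplicit false
set_option linter.unusedSectionVars false
set_option linter.style.haveILetI false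

namespace Cfsg.Agent.PushOdd

open Subgroup LocalCGT
open Baumann.Sub (SBlock bW bWE bZ bQ SLTwo slPerm IsSemi)
open scoped commutatorElement

universe u

variable {G : Type u} [Group G] [Finite G]

/-- What equality in the block inequality gives. -/
def SecExact (T : Sylow 2 G) {E : Subgroup G} {Wt : Type} (s : Sec 2 E Wt) : Prop :=
  ∃ L : Set Wt, ∀ Y : Subgroup ↥(normalizer (E : Set G)), (∀ y ∈ Y, (y : G) ∈ (T : Subgroup G)) →
    (∀ a ∈ Y, ∀ b ∈ Y, s.π₀ a * s.π₀ b = s.π₀ b * s.π₀ a) →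
    (∀ k : ↥(normalizer (E : Set G)), (k : G) ∈ (T : Subgroup G) → ∀ y ∈ Y, k * y * k⁻¹ ∈ Y) →
    (∃ y ∈ Y, s.π₀ y ≠ 1) →
    Nat.card Wt ≤ Nat.card (Y.map s.π₀) * Nat.card {w : Wt | ∀ σ ∈ Y.map s.π₀, σ w = w} →
    {w : Wt | ∀ σ ∈ Y.map s.π₀, σ w = w} = L ∧
      ∃ x ∈ Y, (∀ w, s.π₀ x w = w → w ∈ L) ∧
        ∀ w ∈ L, ∃ a b : ↥(bWE 2 E), (b : G) = ⁅(a : G), (x : G)⁆ ∧ s.g b = w

/-- A Sylow subgroup meets a subnormal subgroup of even image nontrivially. -/
theorem exists_sylow_moving {E : Subgroup G} (T : Sylow 2 G) (hE : E.IsSubnormal) {H : Type*}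
    [Group H] (f : ↥E →* H) {h : H} (hr : h ∈ f.range) (h1 : h ≠ 1) (h2 : h * h = 1) :
    ∃ s : ↥E, (s : G) ∈ (T : Subgroup G) ∧ f s ≠ 1 := by
  have hidx : ¬ 2 ∣ ((T : Subgroup G).subgroupOf E).index :=
    LocalStructure.not_dvd_relIndex_subnormal T hE
  have hp : IsPGroup 2 ((T : Subgroup G).subgroupOf E) :=
    T.isPGroup'.comap_of_injective E.subtype E.subtype_injective
  by_contra hno
  push Not at hno
  have hle : (T : Subgroup G).subgroupOf E ≤ f.ker := fun s hs => hno s hs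
  refine hidx (Nat.dvd_trans ?_ (index_dvd_of_le hle))
  rw [index_ker]
  have ho : orderOf (⟨h, hr⟩ : f.range) = 2 :=
    orderOf_eq_prime (by rw [pow_two]; exact Subtype.ext h2) fun e => h1 (congrArg Subtype.val e)
  exact ho ▸ orderOf_dvd_natCard _

theorem eq_one_of_pow_two_pow {K : Type*} [Field K] [CharP K 2] {c : K} {k : ℕ}
    (h : c ^ 2 ^ k = 1) : c = 1 := by
  have e : (c - 1) ^ 2 ^ k = 0 := by rw [sub_pow_char_pow, h, one_pow, sub_self]
  exact sub_eq_zero.1 (eq_zero_of_pow_eq_zero e)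

variable {T : Sylow 2 G} {E : Subgroup G}

/-- A linear block has the equality property. -/
theorem lin_exact (hE : E.IsSubnormal) {K : Type} [Field K] [Fintype K] {n : ℕ}
    (hK : Fintype.card K = 2 ^ n) (h3 : 3 ≤ Fintype.card K) (r : LinMod 2 E K) :
    SecExact T r.sec := by
  classical
  haveI : CharP K 2 := charP_of_card_eq_prime_pow hK
  have h2 : (2 : K) = 0 := CharTwo.two_eq_zero
  set N := normalizer (E : Set G) with hN
  -- an involution of the image of `E`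
  obtain ⟨t, ht0, ht1⟩ : ∃ t : K, t ≠ 0 ∧ t ≠ 1 := by
    by_contra hcon
    push Not at hcon
    have : Fintype.card K ≤ 2 := by
      rw [← Finset.card_univ]
      refine (Finset.card_le_card (t := ({0, 1} : Finset K)) fun x _ => ?_).trans Finset.card_le_two
      by_cases hx : x = 0 <;> simp [hx, hcon]
    omega
  have ht2 : t ^ 2 - 1 ≠ 0 := by
    intro e
    exact ht1 (eq_one_of_pow_two_pow (k := 1) (by rw [pow_one]; exact sub_eq_zero.1 e))
  set M₀ : SLTwo K := Baumann.upper 1 with hM₀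
  have hM₀mem : M₀ ∈ _root_.commutator (SLTwo K) := by
    have e := Baumann.torus_comm_upper t ht0 ((t ^ 2 - 1)⁻¹)
    rw [mul_inv_cancel₀ ht2] at e
    rw [hM₀, ← e]
    exact commutator_mem_commutator (mem_top _) (mem_top _)
  have hM₀1 : M₀ ≠ 1 := by
    intro e
    have := congrArg (fun M : SLTwo K => (M : Matrix (Fin 2) (Fin 2) K) 0 1) e
    simp [M₀, Baumann.upper] at this
  have hM₀2 : M₀ * M₀ = 1 := by
    refine Subtype.ext ?_
    rw [Matrix.SpecialLinearGroup.coe_mul, Matrix.SpecialLinearGroup.coe_one]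
    ext i j
    fin_cases i <;> fin_cases j <;>
      simp [M₀, Baumann.upper, Matrix.mul_apply, Fin.sum_univ_two, CharTwo.add_self_eq_zero]
  let f : ↥E →* Equiv.Perm (Fin 2 → K) := r.π.comp (inclusion Subgroup.le_normalizer)
  have hrange : ∀ M ∈ _root_.commutator (SLTwo K), slPerm M ∈ f.range := by
    intro M hM
    obtain ⟨e, he, hee⟩ := r.image.ge ⟨M, hM, rfl⟩
    exact ⟨⟨e, he⟩, hee⟩
  obtain ⟨s, hsT, hs1⟩ := exists_sylow_moving T hE f (hrange M₀ hM₀mem)
    (fun e => hM₀1 (Baumann.Sub.slPerm_injective (e.trans (map_one _).symm)))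
    (by rw [← map_mul, hM₀2, map_one])
  set s' : ↥N := inclusion Subgroup.le_normalizer s with hs'
  obtain ⟨Ms, -, hMs⟩ := r.image.le ⟨s', s.2, rfl⟩
  have hMs1 : Ms ≠ 1 := fun e => hs1 (by
    show r.π s' = 1
    rw [← hMs, e, map_one])
  refine ⟨{w | r.π s' w = w}, fun Y hYT hYc hYn hYne hge => ?_⟩
  have hYp : IsPGroup 2 Y := (T.isPGroup'.comap_of_injective N.subtype N.subtype_injective).to_le
    fun y hy => hYT y hy
  set S : Set (Fin 2 → K) := {w | ∀ σ ∈ Y.map r.π, σ w = w} with hS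
  change Nat.card (Fin 2 → K) ≤ Nat.card (Y.map r.π) * Nat.card S at hge
  show S = _ ∧ _
  obtain ⟨-, heq⟩ := semi_offender hK (Y.map r.π) (hYp.map _)
    (by rintro _ ⟨a, ha, rfl⟩ _ ⟨b, hb, rfl⟩; exact hYc a ha b hb)
    (by rintro _ ⟨a, -, rfl⟩; exact ⟨_, r.semi a⟩)
    (by
      rintro _ ⟨a, ha, rfl⟩ h1
      obtain ⟨k, hk⟩ := hYp ⟨a, ha⟩
      refine r.sl a k ((r.semi a).eq h1) ?_
      rw [← Subgroup.coe_pow, show a ^ 2 ^ k = 1 from congrArg Subtype.val hk]
      rfl)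
    S fun v hv g hg => hv g hg
  obtain ⟨y₀, hy₀, hy₀1⟩ := hYne
  obtain ⟨-, hlin, v₀, hv₀, hv₀fix, hline⟩ := heq
    (fun e => hy₀1 (mem_bot.1 (e.le ⟨y₀, hy₀, rfl⟩)))
    (by rwa [Nat.card_eq_fintype_card, Fintype.card_fun, Fintype.card_fin, pow_two] at hge)
  -- the Sylow element fixes the line
  have hsv : r.π s' v₀ ∈ S := by
    rintro _ ⟨y, hy, rfl⟩
    have hy' := hYn s'⁻¹ (by exact inv_mem hsT) y hy
    rw [inv_inv] at hy'
    have e := hv₀fix _ ⟨_, hy', rfl⟩
    rw [map_mul, map_mul, map_inv, Equiv.Perm.mul_apply, Equiv.Perm.mul_apply,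
      Equiv.Perm.inv_eq_iff_eq] at e
    exact e
  obtain ⟨c, hc⟩ := (hline _).1 hsv
  have hlinc : ∀ (a : K) (v : Fin 2 → K), r.π s' (a • v) = a • r.π s' v := fun a v => by
    rw [← hMs]
    exact (Baumann.Sub.isSemi_slPerm Ms).2 a v
  have hiter : ∀ j : ℕ, r.π (s' ^ j) v₀ = c ^ j • v₀ := by
    intro j
    induction j with
    | zero => rw [pow_zero, map_one, pow_zero, one_smul]; rfl
    | succ j ih =>
      rw [pow_succ', map_mul, Equiv.Perm.mul_apply, ih, hlinc, hc, smul_smul, ← pow_succ]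
  have hc1 : c = 1 := by
    obtain ⟨k, hk⟩ := T.isPGroup' ⟨(s : G), hsT⟩
    have e := hiter (2 ^ k)
    rw [show s' ^ 2 ^ k = 1 from Subtype.ext (congrArg Subtype.val hk :), map_one,
      Equiv.Perm.one_apply] at e
    refine eq_one_of_pow_two_pow (k := k) (smul_left_injective K hv₀ ?_)
    simp only [← e, one_smul]
  rw [hc1, one_smul] at hc
  have hSL : S = {w | r.π s' w = w} := by
    ext w
    rw [hline]
    refine ⟨fun ⟨a, ha⟩ => ?_, fun hw => ?_⟩
    · show r.π s' w = w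
      rw [ha, hlinc, hc]
    · exact fix_line hMs1 hv₀ (by rw [hMs]; exact hc) (by rw [hMs]; exact hw)
  refine ⟨hSL, y₀, hy₀, fun w hw => ?_, fun w hw => ?_⟩
  all_goals obtain ⟨M, hM⟩ := (show ∃ M : SLTwo K, slPerm M = r.π y₀ by
    obtain ⟨k, hk⟩ := hYp ⟨y₀, hy₀⟩
    refine r.sl y₀ k ((r.semi y₀).eq (hlin _ ⟨y₀, hy₀, rfl⟩)) ?_
    rw [← Subgroup.coe_pow, show y₀ ^ 2 ^ k = 1 from congrArg Subtype.val hk]
    rfl)
  all_goals have hM1 : M ≠ 1 := fun e => hy₀1 (by
    show r.π y₀ = 1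
    rw [← hM, e, map_one])
  all_goals have hMv : slPerm M v₀ = v₀ := by rw [hM]; exact hv₀fix _ ⟨y₀, hy₀, rfl⟩
  · exact hSL.le ((hline w).2 (fix_line hM1 hv₀ hMv (by rw [hM]; exact hw)))
  · obtain ⟨a₀, ha₀⟩ := (hline w).1 (hSL.ge hw)
    obtain ⟨z, hz⟩ := exists_second hv₀
    obtain ⟨c', hc'⟩ : ∃ c' : K, z - slPerm M z = c' • v₀ := by
      refine line_of_det hv₀ ?_
      have := det_mulVec M v₀ z
      rw [← Baumann.Sub.slPerm_apply, ← Baumann.Sub.slPerm_apply, hMv] at this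
      simp only [Pi.sub_apply]
      linear_combination -this
    have hc'0 : c' ≠ 0 := by
      rintro rfl
      rw [zero_smul, sub_eq_zero] at hc'
      exact hM1 (eq_one_of_fix_two (v := v₀) (w := z) (by rw [hz]; exact one_ne_zero) hMv hc'.symm)
    obtain ⟨a, ha⟩ := r.surj (Multiplicative.ofAdd ((a₀ / c') • z))
    have hyW : (y₀ : G) ∈ normalizer (bWE 2 E : Set G) := normalizer_le_normalizer_WE E y₀.2
    set b : ↥(bWE 2 E) := ⟨(y₀ : G) * a * (y₀ : G)⁻¹, (mem_normalizer_iff.1 hyW _).1 a.2⟩ with hb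
    refine ⟨a, a * b⁻¹, ?_, ?_⟩
    · rw [Subgroup.coe_mul, Subgroup.coe_inv, commutatorElement_def, hb]
      group
    · show Multiplicative.toAdd (r.ψ (a * b⁻¹)) = w
      have hsp := r.spec y₀ a b rfl
      rw [← hM] at hsp
      rw [map_mul, map_inv, toAdd_mul, toAdd_inv, ← hsp, ha, toAdd_ofAdd,
        (Baumann.Sub.isSemi_slPerm M).2, show ((1 : K ≃+* K) (a₀ / c')) = a₀ / c' from rfl, ← sub_eq_add_neg, ← smul_sub, hc',
        smul_smul, div_mul_cancel₀ _ hc'0, ha₀]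

end Cfsg.Agent.PushOdd
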