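import Cfsg.Agent.PushOdd.BlockLin
import Cfsg.Agent.LocalCGT.GlobalPermExact
import Mathlib.GroupTheory.Perm.Fin

/-!
# Equality in the block inequality: symmetric blocks

An abelian group normalised by `T ⊓ N(E)` attaining the bound on the even module is generated by the
transpositions of one matching of all points but one: here `T ⊓ N(E)` induces a Sylow subgroup of
the symmetric group of degree `2 ^ n + 1`, which is transitive on these points.
-/

set_option autoImplicit false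
set_option linter.unusedSectionVars false
set_option linter.style.haveILetI false

namespace Cfsg.Agent.PushOdd

open Subgroup LocalCGT
open Baumann.Sub (SBlock bW bWE bZ bQ)
open scoped commutatorElement Pointwise

universe u

/-- Transpositions of a 2-group of permutations are disjoint. -/
theorem partner_unique {α : Type*} [Fintype α] [DecidableEq α] {P : Subgroup (Equiv.Perm α)}
    (hP : IsPGroup 2 P) {i j k : α} (hij : i ≠ j) (hik : i ≠ k)
    (h1 : Equiv.swap i j ∈ P) (h2 : Equiv.swap i k ∈ P) : j = k := by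
  by_contra hjk
  obtain ⟨t, ht⟩ := hP ⟨_, mul_mem h1 h2⟩
  have h3 := (Equiv.Perm.isThreeCycle_swap_mul_swap_same hij hik hjk).orderOf
  have hd := orderOf_dvd_of_pow_eq_one
    (show (Equiv.swap i j * Equiv.swap i k) ^ 2 ^ t = 1 from congrArg Subtype.val ht)
  rw [h3] at hd
  exact absurd (Nat.prime_three.dvd_of_dvd_pow hd) (by norm_num)

variable {m : ℕ}

/-- A 2-group with an odd element containing a Sylow subgroup of the alternating group is a Sylow
subgroup of the symmetric group, so transitive off its fixed point. -/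
theorem transitive_of_sylow {r : ℕ} (hr : 2 * m = 2 ^ r) (hm : 1 ≤ m)
    {P : Subgroup (Equiv.Perm (Fin (2 * m + 1)))} (hP : IsPGroup 2 P)
    {P₀ : Subgroup (Equiv.Perm (Fin (2 * m + 1)))} (hP₀ : P₀ ≤ P)
    (hP₀A : P₀ ≤ alternatingGroup (Fin (2 * m + 1)))
    (hidx : ¬ 2 ∣ P₀.relIndex (alternatingGroup (Fin (2 * m + 1))))
    {t : Equiv.Perm (Fin (2 * m + 1))} (ht : t ∈ P) (hto : t ∉ alternatingGroup (Fin (2 * m + 1)))
    {o : Fin (2 * m + 1)} (ho : ∀ x ∈ P, x o = o) {i j : Fin (2 * m + 1)} (hi : i ≠ o)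
    (hj : j ≠ o) : ∃ k ∈ P, k i = j := by
  classical
  set A := alternatingGroup (Fin (2 * m + 1)) with hA
  obtain ⟨Q, hPQ⟩ := hP.exists_le_sylow
  have hQA : Nat.card (Q ⊓ A : Subgroup _) ≤ Nat.card P₀ := by
    refine Nat.le_of_dvd Nat.card_pos ?_
    obtain ⟨k, hk⟩ := IsPGroup.iff_card.1 (Q.isPGroup'.to_le (inf_le_left : (Q : Subgroup _) ⊓ A ≤ Q))
    have hd : Nat.card (Q ⊓ A : Subgroup _) ∣ Nat.card A := card_dvd_of_le inf_le_right
    have e : Nat.card A = Nat.card P₀ * P₀.relIndex A := by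
      rw [← relIndex_bot_left, ← relIndex_bot_left, relIndex_mul_relIndex _ _ _ bot_le hP₀A]
    rw [e, hk] at hd
    rw [hk]
    exact (Nat.Coprime.pow_left _ (Nat.prime_two.coprime_iff_not_dvd.2 hidx)).dvd_of_dvd_mul_right hd
  have hQle : Nat.card Q ≤ 2 * Nat.card (Q ⊓ A : Subgroup _) := by
    have e : Nat.card Q = Nat.card (Q ⊓ A : Subgroup _) * A.relIndex Q := by
      rw [← inf_relIndex_left, ← relIndex_bot_left, ← relIndex_bot_left,
        relIndex_mul_relIndex _ _ _ bot_le inf_le_left]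
    rw [e, mul_comm]
    refine Nat.mul_le_mul_right _ (Nat.le_of_dvd two_pos ?_)
    haveI : Nontrivial (Fin (2 * m + 1)) := Fin.nontrivial_iff_two_le.2 (by omega)
    exact (relIndex_dvd_index_of_normal A Q).trans
      (dvd_of_eq (alternatingGroup.index_eq_two (α := Fin (2 * m + 1))))
  have hPge : 2 * Nat.card P₀ ≤ Nat.card P := by
    have e : Nat.card P = Nat.card P₀ * P₀.relIndex P := by
      rw [← relIndex_bot_left, ← relIndex_bot_left, relIndex_mul_relIndex _ _ _ bot_le hP₀]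
    rw [e, mul_comm]
    refine Nat.mul_le_mul_left _ ?_
    by_contra hlt
    have h1 : P₀.relIndex P = 1 := by
      have : P₀.relIndex P ≠ 0 := index_ne_zero_of_finite
      omega
    exact hto (hP₀A (relIndex_eq_one.1 h1 ht))
  have hPeq : P = Q := eq_of_le_of_card_ge hPQ
    ((hQle.trans (Nat.mul_le_mul_left 2 hQA)).trans hPge)
  -- the long cycle
  set i₀ : Fin (2 * m + 1) := ⟨2 * m - 1, by omega⟩ with hi₀
  haveI : NeZero (2 * m + 1) := ⟨by omega⟩
  have hi₀0 : i₀ ≠ 0 := fun e => by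
    have := congrArg Fin.val e
    simp [i₀] at this
    omega
  set c := Fin.cycleRange i₀ with hc
  have hmove : ∀ x : Fin (2 * m + 1), x ≠ Fin.last (2 * m) → c x ≠ x := by
    intro x hx
    have hxlt : (x : ℕ) < 2 * m := Fin.val_lt_last hx
    rw [hc, Fin.cycleRange_apply]
    rcases lt_trichotomy x i₀ with hlt | heq | hgt
    · rw [if_pos hlt]
      intro e
      have := congrArg Fin.val e
      rw [Fin.val_add_one_of_lt (Fin.lt_last_iff_ne_last.2 hx)] at this
      omega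
    · subst heq
      rw [if_neg (lt_irrefl _), if_pos rfl]
      exact fun e => hi₀0 e.symm
    · exfalso
      have : (i₀ : ℕ) < x := hgt
      simp [i₀] at this
      omega
  have hlast : c (Fin.last (2 * m)) = Fin.last (2 * m) :=
    Fin.cycleRange_of_gt (Fin.lt_def.2 (by simp [i₀]; omega))
  have hcyc : c.IsCycle := Fin.isCycle_cycleRange hi₀0
  have hord : orderOf c = 2 ^ r := by
    rw [← Equiv.Perm.lcm_cycleType, hc, Fin.cycleType_cycleRange hi₀0, Multiset.lcm_singleton,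
      normalize_eq, ← hr]
    simp [i₀]
    omega
  have hcp : IsPGroup 2 (zpowers c) := IsPGroup.iff_card.2 ⟨r, by rw [Nat.card_zpowers, hord]⟩
  obtain ⟨R, hR⟩ := hcp.exists_le_sylow
  obtain ⟨g, hg⟩ := MulAction.exists_smul_eq (Equiv.Perm (Fin (2 * m + 1))) R Q
  have hgc : g * c * g⁻¹ ∈ P := by
    rw [hPeq, ← hg, Sylow.coe_subgroup_smul]
    exact ⟨c, hR (mem_zpowers c), rfl⟩
  have hgo : g⁻¹ o = Fin.last (2 * m) := by
    by_contra hne
    refine hmove _ hne ?_
    have := ho _ hgc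
    rw [Equiv.Perm.mul_apply, Equiv.Perm.mul_apply] at this
    exact (Equiv.Perm.eq_inv_iff_eq.2 this).trans rfl
  have hne : ∀ x, x ≠ o → g⁻¹ x ≠ Fin.last (2 * m) := fun x hx e =>
    hx (g⁻¹.injective (e.trans hgo.symm))
  obtain ⟨k, hk⟩ := hcyc.exists_pow_eq (hmove _ (hne i hi)) (hmove _ (hne j hj))
  refine ⟨g * c ^ k * g⁻¹, ?_, ?_⟩
  · rw [← conj_pow]
    exact pow_mem hgc k
  · rw [Equiv.Perm.mul_apply, Equiv.Perm.mul_apply, hk, ← Equiv.Perm.mul_apply, mul_inv_cancel,
      Equiv.Perm.one_apply]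

variable {G : Type u} [Group G] [Finite G] {T : Sylow 2 G} {E : Subgroup G}

/-- A symmetric block has the equality property. -/
theorem sym_exact (hE : E.IsSubnormal) (hm : 1 ≤ m) {n : ℕ} (hn : 2 * m = 2 ^ n)
    (r : SymMod 2 E m) : SecExact T (r.sec hm) := by
  classical
  set N := normalizer (E : Set G) with hN
  set Kp := ((T : Subgroup G).subgroupOf N).map r.π with hKp
  have hKpp : IsPGroup 2 Kp :=
    (T.isPGroup'.comap_of_injective N.subtype N.subtype_injective).map r.π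
  obtain ⟨o, ho⟩ := hKpp.nonempty_fixed_point_of_prime_not_dvd_card (Fin (2 * m + 1))
    (by rw [Nat.card_fin]; omega)
  have ho : ∀ x ∈ Kp, x o = o := fun x hx => ho ⟨x, hx⟩
  -- a Sylow subgroup of the image of `E`
  let f : ↥E →* ↥(alternatingGroup (Fin (2 * m + 1))) :=
    (r.π.comp (inclusion Subgroup.le_normalizer)).codRestrict _ fun e =>
      r.image.le ⟨inclusion Subgroup.le_normalizer e, e.2, rfl⟩
  have hf : Function.Surjective f := fun a => by
    obtain ⟨e, he, hee⟩ := r.image.ge a.2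
    exact ⟨⟨e, he⟩, Subtype.ext hee⟩
  set P₀ := ((((T : Subgroup G).subgroupOf E).map f).map
    (alternatingGroup (Fin (2 * m + 1))).subtype) with hP₀
  have hP₀K : P₀ ≤ Kp := by
    rintro _ ⟨_, ⟨e, he, rfl⟩, rfl⟩
    exact ⟨inclusion Subgroup.le_normalizer e, he, rfl⟩
  have hP₀A : P₀ ≤ alternatingGroup (Fin (2 * m + 1)) := map_subtype_le _
  have hidx : ¬ 2 ∣ P₀.relIndex (alternatingGroup (Fin (2 * m + 1))) := by
    rw [hP₀, relIndex, subgroupOf, comap_map_eq_self_of_injective (subtype_injective _)]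
    exact fun h => LocalStructure.not_dvd_relIndex_subnormal T hE
      (h.trans (index_map_dvd _ hf))
  refine ⟨{w | ∀ a b, Equiv.swap a b ∈ Kp → w.1 a = w.1 b}, fun Y hYT hYc hYn hYne hge => ?_⟩
  set Q := Y.map r.π with hQ
  set S : Set {v : Fin (2 * m + 1) → ZMod 2 // ∑ i, v i = 0} :=
    {w | ∀ σ ∈ Y.map (r.sec hm).π₀, σ w = w} with hS
  show S = _ ∧ _
  have hQK : Q ≤ Kp := Subgroup.map_mono fun y hy => hYT y hy
  have hker : ∀ a, (r.sec hm).π₀ a = 1 ↔ r.π a = 1 := fun a =>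
    ((r.sec hm).triv a).trans (r.triv a).symm
  have hcomm : ∀ a ∈ Q, ∀ b ∈ Q, a * b = b * a := by
    rintro _ ⟨a, ha, rfl⟩ _ ⟨b, hb, rfl⟩
    rw [← map_mul, ← map_mul, ← mul_inv_eq_one, ← map_inv, ← map_mul, ← hker, map_mul, map_inv,
      mul_inv_eq_one, map_mul, map_mul]
    exact hYc a ha b hb
  have hcard : Nat.card (Y.map (r.sec hm).π₀) = Nat.card Q := by
    have e1 := FFStruct.card_range_ker ((r.sec hm).π₀.comp Y.subtype)
    have e2 := FFStruct.card_range_ker (r.π.comp Y.subtype)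
    rw [MonoidHom.range_comp, range_subtype] at e1 e2
    rw [show ((r.sec hm).π₀.comp Y.subtype).ker = (r.π.comp Y.subtype).ker from
      Subgroup.ext fun x => hker x] at e1
    exact Nat.eq_of_mul_eq_mul_right Nat.card_pos (e1.symm.trans e2)
  let Fs : AddSubgroup (Fin (2 * m + 1) → ZMod 2) :=
    { carrier := {f | (∑ i, f i = 0) ∧ ∀ x ∈ Q, ∀ i, f (x i) = f i}
      zero_mem' := ⟨by simp, fun _ _ _ => rfl⟩
      add_mem' := fun {f g} hf hg => ⟨by
        simp [Finset.sum_add_distrib, hf.1, hg.1], fun x hx i => by simp [hf.2 x hx i, hg.2 x hx i]⟩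
      neg_mem' := fun {f} hf => ⟨by simp [hf.1], fun x hx i => by simp [hf.2 x hx i]⟩ }
  have hinv : ∀ w ∈ S, ∀ x ∈ Q, ∀ i, w.1 (x i) = w.1 i := by
    rintro w hw _ ⟨a, ha, rfl⟩ i
    have h1 := congrFun (congrArg Subtype.val (hw _ ⟨a⁻¹, inv_mem ha, rfl⟩)) i
    change w.1 ((r.π a⁻¹)⁻¹ i) = w.1 i at h1
    rwa [map_inv, inv_inv] at h1
  have hge' : 2 ^ (2 * m + 1) ≤ Nat.card Q * Nat.card Fs * 2 := by
    rw [← card_even_mul_two (N := 2 * m + 1) LocalCGT.odd_cast, ← hcard]
    refine Nat.mul_le_mul_right _ (hge.trans (Nat.mul_le_mul_left _ ?_))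
    exact Nat.card_le_card_of_injective (fun w => (⟨w.1.1, w.1.2, hinv w.1 w.2⟩ : Fs))
      fun a b h => Subtype.ext (Subtype.ext (congrArg Subtype.val h :))
  have hswap : ∀ x ∈ Q, ∀ i, x i ≠ i → Equiv.swap i (x i) ∈ Q :=
    perm_exact_swap hcomm Fs (fun g hg => hg.1) (fun g hg => hg.2)
      ⟨o, fun x hx => ho x (hQK hx)⟩ hge'
  -- the transpositions of `Kp` lie in `Q`
  have hnormQ : ∀ k ∈ Kp, ∀ x ∈ Q, k * x * k⁻¹ ∈ Q := by
    rintro _ ⟨k, hk, rfl⟩ _ ⟨y, hy, rfl⟩
    exact ⟨k * y * k⁻¹, hYn k hk y hy, by rw [map_mul, map_mul, map_inv]⟩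
  obtain ⟨p₀, q₀, hpq, hs₀⟩ : ∃ p₀ q₀, p₀ ≠ q₀ ∧ Equiv.swap p₀ q₀ ∈ Q := by
    obtain ⟨y, hy, hy1⟩ := hYne
    obtain ⟨i, hi⟩ : ∃ i, r.π y i ≠ i := by
      by_contra hno
      push Not at hno
      exact hy1 ((hker y).2 (Equiv.ext hno))
    exact ⟨i, _, fun e => hi e.symm, hswap _ ⟨y, hy, rfl⟩ i hi⟩
  have hodd : Equiv.swap p₀ q₀ ∉ alternatingGroup (Fin (2 * m + 1)) := by
    rw [Equiv.Perm.mem_alternatingGroup, Equiv.Perm.sign_swap hpq]
    decide
  have hne_o : ∀ {a b}, a ≠ b → Equiv.swap a b ∈ Kp → a ≠ o := by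
    intro a b hab hs e
    have := ho _ hs
    rw [← e, Equiv.swap_apply_left] at this
    exact hab this.symm
  have htr : ∀ {a b}, a ≠ o → b ≠ o → ∃ k ∈ Kp, k a = b := fun ha hb =>
    transitive_of_sylow hn hm hKpp hP₀K hP₀A hidx (hQK hs₀) hodd ho ha hb
  have hpart : ∀ a, a ≠ o → ∃ b, a ≠ b ∧ Equiv.swap a b ∈ Q := by
    intro a ha
    obtain ⟨k, hk, hka⟩ := htr (hne_o hpq (hQK hs₀)) ha
    refine ⟨k q₀, fun e => hpq (k.injective (hka.trans e)), ?_⟩
    rw [← hka, Equiv.swap_apply_apply]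
    exact hnormQ k hk _ hs₀
  have hKQ : ∀ a b, a ≠ b → Equiv.swap a b ∈ Kp → Equiv.swap a b ∈ Q := by
    intro a b hab hs
    obtain ⟨b', hab', hs'⟩ := hpart a (hne_o hab hs)
    rwa [partner_unique hKpp hab hab' hs (hQK hs')]
  refine ⟨Set.ext fun w => ⟨fun hw a b hs => ?_, fun hw => ?_⟩, ?_⟩
  · rcases eq_or_ne a b with rfl | hab
    · rfl
    have := hinv w hw _ (hKQ a b hab hs) a
    rw [Equiv.swap_apply_left] at this
    exact this.symm
  · rintro _ ⟨y, hy, rfl⟩
    refine Subtype.ext (funext fun i => ?_)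
    show w.1 ((r.π y)⁻¹ i) = w.1 i
    by_cases hi : (r.π y)⁻¹ i = i
    · rw [hi]
    exact (hw _ _ (hQK (hswap _ (inv_mem ⟨y, hy, rfl⟩) i hi))).symm
  -- an element moving every point but `o`
  haveI : Nonempty ↥Q := ⟨1⟩
  obtain ⟨⟨x, hxQ⟩, hxmax⟩ :=
    Finite.exists_max fun x : ↥Q => (x : Equiv.Perm (Fin (2 * m + 1))).support.card
  have hmoves : ∀ i, i ≠ o → x i ≠ i := by
    intro i hi hxi
    obtain ⟨j, hij, hs⟩ := hpart i hi
    have hxj : x j = j := by
      have e := congrArg (fun g : Equiv.Perm (Fin (2 * m + 1)) => g i) (hcomm x hxQ _ hs)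
      simp only [Equiv.Perm.mul_apply, Equiv.swap_apply_left, hxi] at e
      exact e
    have hlt : x.support.card < (x * Equiv.swap i j).support.card := by
      refine Finset.card_lt_card (Finset.ssubset_iff.2 ⟨i, by simp [hxi], fun z hz => ?_⟩)
      rw [Finset.mem_insert] at hz
      rw [Equiv.Perm.mem_support, Equiv.Perm.mul_apply]
      rcases hz with rfl | hz
      · rw [Equiv.swap_apply_left, hxj]
        exact hij.symm
      · rw [Equiv.Perm.mem_support] at hz
        rw [Equiv.swap_apply_of_ne_of_ne (fun e => hz (by rw [e]; exact hxi))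
          (fun e => hz (by rw [e]; exact hxj))]
        exact hz
    exact absurd (hxmax ⟨_, mul_mem hxQ hs⟩) (not_le.2 hlt)
  have hpartner : ∀ a b, a ≠ b → Equiv.swap a b ∈ Kp → x a = b := fun a b hab hs =>
    partner_unique hKpp (fun e => hmoves a (hne_o hab hs) e.symm) hab
      (hQK (hswap x hxQ a (hmoves a (hne_o hab hs)))) hs
  have hxo : x o = o := ho x (hQK hxQ)
  have hx2 : ∀ i, x (x i) = i := by
    intro i
    rcases eq_or_ne i o with rfl | hi
    · rw [hxo, hxo]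
    · refine hpartner _ _ (hmoves i hi) ?_
      rw [Equiv.swap_comm]
      exact hQK (hswap x hxQ i (hmoves i hi))
  obtain ⟨y, hy, hyx⟩ := hxQ
  subst hyx
  refine ⟨y, hy, fun w hw a b hs => ?_, fun w hw => ?_⟩
  · rcases eq_or_ne a b with rfl | hab
    · rfl
    have e := congrFun (congrArg Subtype.val hw) b
    change w.1 ((r.π y)⁻¹ b) = w.1 b at e
    rw [← hpartner a b hab hs, ← Equiv.Perm.mul_apply, inv_mul_cancel, Equiv.Perm.one_apply] at e
    rwa [hpartner a b hab hs] at e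
  have hwx : ∀ i, w.1 (r.π y i) = w.1 i := by
    intro i
    rcases eq_or_ne i o with rfl | hi
    · rw [hxo]
    exact (hw _ _ (hQK (hswap _ ⟨y, hy, rfl⟩ i (hmoves i hi)))).symm
  set s := Finset.univ.erase o with hs
  have hwo : w.1 o = 0 := by
    have h0 : ∑ i ∈ s, w.1 i = 0 := Finset.sum_involution (fun i _ => r.π y i)
      (fun i _ => by rw [hwx, CharTwo.add_self_eq_zero])
      (fun i hi _ => hmoves i (Finset.ne_of_mem_erase hi))
      (fun i hi => Finset.mem_erase.2 ⟨fun e =>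
        Finset.ne_of_mem_erase hi ((r.π y).injective (e.trans hxo.symm)), Finset.mem_univ _⟩)
      (fun i _ => hx2 i)
    have := w.2
    rwa [← Finset.add_sum_erase _ _ (Finset.mem_univ o), ← hs, h0, add_zero] at this
  set g : Fin (2 * m + 1) → ZMod 2 := fun i => if i < r.π y i then w.1 i else 0 with hg
  set g' := Function.update g o (∑ i ∈ s, g i) with hg'
  have hg'o : g' o = ∑ i ∈ s, g i := Function.update_self ..
  have hg'ne : ∀ i, i ≠ o → g' i = g i := fun i hi => Function.update_of_ne hi ..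
  have heven : ∑ i, g' i = 0 := by
    rw [← Finset.add_sum_erase _ _ (Finset.mem_univ o), ← hs, hg'o,
      Finset.sum_congr rfl fun i hi => hg'ne i (Finset.ne_of_mem_erase hi),
      CharTwo.add_self_eq_zero]
  obtain ⟨a, ha⟩ := r.onto g' heven
  have hyW : (y : G) ∈ normalizer (bWE 2 E : Set G) := normalizer_le_normalizer_WE E y.2
  set b : ↥(bWE 2 E) := ⟨(y : G) * a * (y : G)⁻¹, (mem_normalizer_iff.1 hyW _).1 a.2⟩ with hb
  refine ⟨a, a * b⁻¹, ?_, Subtype.ext (funext fun i => ?_)⟩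
  · rw [Subgroup.coe_mul, Subgroup.coe_inv, commutatorElement_def, hb]
    group
  show Multiplicative.toAdd (r.ψ (a * b⁻¹)) i = w.1 i
  rw [map_mul, map_inv, toAdd_mul, toAdd_inv, ha, Pi.add_apply, Pi.neg_apply,
    r.spec y a b rfl i, ha, CharTwo.neg_eq]
  have hinvy : (r.π y)⁻¹ i = r.π y i := Equiv.Perm.inv_eq_iff_eq.2 (hx2 i).symm
  rw [hinvy]
  rcases eq_or_ne i o with rfl | hi
  · rw [hxo, CharTwo.add_self_eq_zero, hwo]
  have hxi : r.π y i ≠ o := fun e => hi ((r.π y).injective (e.trans hxo.symm))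
  rw [hg'ne i hi, hg'ne _ hxi, hg]
  simp only [hx2 i, hwx i]
  rcases lt_trichotomy i (r.π y i) with h | h | h
  · rw [if_pos h, if_neg (not_lt.2 h.le), add_zero]
  · exact absurd h.symm (hmoves i hi)
  · rw [if_neg (not_lt.2 h.le), if_pos h, zero_add]

end Cfsg.Agent.PushOdd
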