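import Cfsg.Agent.Core.Basics
import Mathlib.Algebra.Group.Subgroup.Finite
import Mathlib.GroupTheory.OrderOfElement

/-!
# Odd automorphisms of a 2-group cannot exchange two modules

`S` is a finite group, `V` a normal elementary abelian 2-subgroup and `C₀` a normal subgroup such
that `C_S(V)` is elementary abelian modulo `C₀`.  If every normal abelian subgroup satisfies the
offender inequality on `V / (V ⊓ C₀)` and the offenders with equality behave as in the block
structure, then every automorphism of odd order maps `V` into `C_S(V)`.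
-/

set_option autoImplicit false
set_option linter.unusedSectionVars false
set_option linter.style.haveILetI false

namespace Cfsg.Agent.PushOdd

open Subgroup
open scoped commutatorElement

variable {S : Type*} [Group S]

/-- The elements of `V` centralised by `Y` modulo `C₀`. -/
def ct (V C₀ : Subgroup S) [C₀.Normal] (Y : Subgroup S) : Subgroup S :=
  V ⊓ (centralizer ((Y.map (QuotientGroup.mk' C₀) : Subgroup (S ⧸ C₀)) : Set (S ⧸ C₀))).comap
    (QuotientGroup.mk' C₀)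

theorem mk_comm_iff {C₀ : Subgroup S} [C₀.Normal] (v y : S) :
    (y : S ⧸ C₀) * v = v * y ↔ ⁅v, y⁆ ∈ C₀ := by
  rw [← QuotientGroup.eq_one_iff, commutatorElement_def]
  simp only [QuotientGroup.mk_mul, QuotientGroup.mk_inv]
  rw [mul_inv_eq_one, mul_inv_eq_iff_eq_mul, eq_comm]

theorem mem_ct {V C₀ : Subgroup S} [C₀.Normal] {Y : Subgroup S} {v : S} :
    v ∈ ct V C₀ Y ↔ v ∈ V ∧ ∀ y ∈ Y, ⁅v, y⁆ ∈ C₀ := by
  simp only [ct, mem_inf, mem_comap, mem_centralizer_iff, coe_map, Set.forall_mem_image,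
    QuotientGroup.mk'_apply, SetLike.mem_coe]
  refine and_congr_right fun _ => forall₂_congr fun y _ => ?_
  exact mk_comm_iff v y

theorem ct_normal {V C₀ : Subgroup S} [V.Normal] [C₀.Normal] {Y : Subgroup S} (hY : Y.Normal) :
    (ct V C₀ Y).Normal := by
  refine ⟨fun v hv g => mem_ct.2 ⟨Normal.conj_mem ‹_› v (mem_ct.1 hv).1 g, fun y hy => ?_⟩⟩
  have h := Normal.conj_mem ‹C₀.Normal› _ ((mem_ct.1 hv).2 (g⁻¹ * y * g⁻¹⁻¹) (hY.conj_mem y hy g⁻¹)) g
  convert h using 1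
  simp only [commutatorElement_def]
  group

/-- The elements acting trivially on both steps of the series `V ≥ L ≥ C₀`. -/
def chain (V L C₀ : Subgroup S) [L.Normal] [C₀.Normal] : Subgroup S :=
  (centralizer ((V.map (QuotientGroup.mk' L) : Subgroup (S ⧸ L)) : Set (S ⧸ L))).comap
      (QuotientGroup.mk' L) ⊓
    (centralizer ((L.map (QuotientGroup.mk' C₀) : Subgroup (S ⧸ C₀)) : Set (S ⧸ C₀))).comap
      (QuotientGroup.mk' C₀)

theorem mk_comm_iff' {N : Subgroup S} [N.Normal] (v s : S) :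
    (v : S ⧸ N) * s = s * v ↔ ⁅v, s⁆ ∈ N := by
  rw [eq_comm, mk_comm_iff]

theorem mem_chain {V L C₀ : Subgroup S} [L.Normal] [C₀.Normal] {s : S} :
    s ∈ chain V L C₀ ↔ (∀ v ∈ V, ⁅v, s⁆ ∈ L) ∧ ∀ v ∈ L, ⁅v, s⁆ ∈ C₀ := by
  simp only [chain, mem_inf, mem_comap, mem_centralizer_iff, coe_map, Set.forall_mem_image,
    QuotientGroup.mk'_apply, SetLike.mem_coe]
  exact and_congr (forall₂_congr fun v _ => mk_comm_iff' v s)
    (forall₂_congr fun v _ => mk_comm_iff' v s)

theorem chain_normal {V L C₀ : Subgroup S} [V.Normal] [L.Normal] [C₀.Normal] :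
    (chain V L C₀).Normal := by
  refine ⟨fun s hs g => mem_chain.2 ⟨fun v hv => ?_, fun v hv => ?_⟩⟩
  · have h := Normal.conj_mem ‹L.Normal› _
      ((mem_chain.1 hs).1 (g⁻¹ * v * g⁻¹⁻¹) (Normal.conj_mem ‹V.Normal› v hv g⁻¹)) g
    convert h using 1
    simp only [commutatorElement_def]
    group
  · have h := Normal.conj_mem ‹C₀.Normal› _
      ((mem_chain.1 hs).2 (g⁻¹ * v * g⁻¹⁻¹) (Normal.conj_mem ‹L.Normal› v hv g⁻¹)) g
    convert h using 1
    simp only [commutatorElement_def]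
    group

/-- `Y` is a normal abelian subgroup attaining the offender bound on `V`. -/
structure Exact (V C₀ : Subgroup S) [C₀.Normal] (Y : Subgroup S) : Prop where
  normal : Y.Normal
  comm : ∀ a ∈ Y, ∀ b ∈ Y, a * b = b * a
  moves : ¬ Y ≤ centralizer (V : Set S)
  ge : Nat.card V * Nat.card (Y ⊓ centralizer (V : Set S) : Subgroup S) ≤
    Nat.card Y * Nat.card (ct V C₀ Y)

/-- What the blocks give. -/
structure Pack (V C₀ : Subgroup S) [C₀.Normal] : Prop where
  vab : ∀ v ∈ V, ∀ w ∈ V, v * w = w * v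
  vsq : ∀ v ∈ V, v * v = 1
  dd : ∀ d ∈ centralizer (V : Set S), ∀ d' ∈ centralizer (V : Set S), ⁅d, d'⁆ ∈ C₀
  dsq : ∀ d ∈ centralizer (V : Set S), d * d ∈ C₀
  bound : ∀ Y : Subgroup S, Y.Normal → (∀ a ∈ Y, ∀ b ∈ Y, a * b = b * a) →
    Nat.card Y * Nat.card (ct V C₀ Y) ≤
      Nat.card V * Nat.card (Y ⊓ centralizer (V : Set S) : Subgroup S)
  span : ∀ Y, Exact V C₀ Y → ct V C₀ Y ≤ (V ⊓ Y) ⊔ (V ⊓ C₀)
  unique : ∀ Y Y', Exact V C₀ Y → Exact V C₀ Y' → ct V C₀ Y = ct V C₀ Y'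
  chainBound : ∀ Y P : Subgroup S, Exact V C₀ Y → P.Normal →
    (∀ v ∈ V, ∀ s ∈ P, ⁅v, s⁆ ∈ ct V C₀ Y) → (∀ v ∈ ct V C₀ Y, ∀ s ∈ P, ⁅v, s⁆ ∈ C₀) →
    Nat.card P * Nat.card (ct V C₀ Y) ≤
      Nat.card V * Nat.card (P ⊓ centralizer (V : Set S) : Subgroup S)
  good : ∀ Y, Exact V C₀ Y → ∃ y ∈ Y, ∀ v ∈ V, ⁅v, y⁆ ∈ C₀ → v ∈ ct V C₀ Y

variable [Finite S] {V C₀ : Subgroup S} [hVn : V.Normal] [C₀.Normal]

local notation "im[" φ "]" => Subgroup.map (MulEquiv.toMonoidHom φ)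
local notation "𝒟" => centralizer (V : Set S)

theorem im_im (φ ψ : MulAut S) (H : Subgroup S) : im[φ] (im[ψ] H) = im[φ * ψ] H :=
  Subgroup.map_map H _ _

theorem im_one (H : Subgroup S) : im[(1 : MulAut S)] H = H := Subgroup.map_id H

theorem card_im (φ : MulAut S) (H : Subgroup S) : Nat.card (im[φ] H) = Nat.card H :=
  Subgroup.card_map_of_injective φ.injective

theorem im_centralizer (φ : MulAut S) (H : Subgroup S) :
    im[φ] (centralizer (H : Set S)) = centralizer (im[φ] H : Set S) := by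
  ext x
  simp only [mem_map_equiv, mem_centralizer_iff, coe_map, Set.forall_mem_image,
    MulEquiv.coe_toMonoidHom, SetLike.mem_coe]
  refine forall₂_congr fun h _ => ?_
  constructor
  · intro e
    simpa using congrArg φ e
  · intro e
    simpa using congrArg φ.symm e

theorem im_normal (φ : MulAut S) {H : Subgroup S} (hH : H.Normal) : (im[φ] H).Normal :=
  hH.map _ φ.surjective

theorem im_comm (φ : MulAut S) (h : Pack V C₀) :
    ∀ a ∈ im[φ] V, ∀ b ∈ im[φ] V, a * b = b * a := by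
  rintro _ ⟨a, ha, rfl⟩ _ ⟨b, hb, rfl⟩
  simp only [MulEquiv.coe_toMonoidHom, ← map_mul, h.vab a ha b hb]

variable (h : Pack V C₀)
include h

theorem card_ct_le (φ : MulAut S) :
    Nat.card (ct V C₀ (im[φ] V)) ≤ Nat.card (im[φ] V ⊓ 𝒟 : Subgroup S) := by
  have h1 := h.bound _ (im_normal φ hVn) (im_comm φ h)
  rw [card_im] at h1
  exact Nat.le_of_mul_le_mul_left h1 Nat.card_pos

omit h in
theorem inf_centralizer_le (X : Subgroup S) : V ⊓ centralizer (X : Set S) ≤ ct V C₀ X := by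
  rintro v ⟨hv, hc⟩
  refine mem_ct.2 ⟨hv, fun y hy => ?_⟩
  rw [commutatorElement_eq_one_iff_mul_comm.2 (mem_centralizer_iff.1 hc y hy).symm]
  exact one_mem _

omit h in
theorem card_swap (φ : MulAut S) :
    Nat.card (im[φ⁻¹] V ⊓ 𝒟 : Subgroup S) =
      Nat.card (V ⊓ centralizer (im[φ] V : Set S) : Subgroup S) := by
  rw [← card_im φ, Subgroup.map_inf _ _ _ φ.injective, im_im, mul_inv_cancel, im_one,
    im_centralizer]

/-- Every image of `V` attains the bound. -/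
theorem image_exact (φ : MulAut S) :
    ct V C₀ (im[φ] V) = V ⊓ centralizer (im[φ] V : Set S) ∧
      Nat.card (ct V C₀ (im[φ] V)) = Nat.card (im[φ] V ⊓ 𝒟 : Subgroup S) := by
  have key : ∀ ψ : MulAut S, Nat.card (im[ψ⁻¹] V ⊓ 𝒟 : Subgroup S) ≤
      Nat.card (im[ψ] V ⊓ 𝒟 : Subgroup S) := fun ψ => by
    rw [card_swap]
    exact (Subgroup.card_le_of_le (inf_centralizer_le _)).trans (card_ct_le h ψ)
  have h1 := key φ
  have h2 := key φ⁻¹
  rw [inv_inv] at h2
  have h3 : Nat.card (ct V C₀ (im[φ] V)) ≤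
      Nat.card (V ⊓ centralizer (im[φ] V : Set S) : Subgroup S) :=
    (card_ct_le h φ).trans (h2.trans (card_swap φ).le)
  have e := eq_of_le_of_card_ge (inf_centralizer_le (V := V) (C₀ := C₀) (im[φ] V)) h3
  refine ⟨e.symm, ?_⟩
  rw [← e]
  exact le_antisymm (h3.trans' (by rw [← e]) |>.trans (by rw [← card_swap]; exact h1))
    (by rw [← card_swap]; exact h2)

theorem exact_of_moves {φ : MulAut S} (hm : ¬ im[φ] V ≤ 𝒟) : Exact V C₀ (im[φ] V) where
  normal := im_normal φ hVn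
  comm := im_comm φ h
  moves := hm
  ge := by rw [card_im, (image_exact h φ).2]

omit h in
theorem commutator_mem_of_normal {X : Subgroup S} (hX : X.Normal) {v x : S} (hx : x ∈ X) :
    ⁅v, x⁆ ∈ X := by
  rw [commutatorElement_def]
  exact mul_mem (hX.conj_mem x hx v) (inv_mem hx)

omit h in
theorem commutator_mem_of_normal_left {X : Subgroup S} (hX : X.Normal) {v x : S} (hv : v ∈ X) :
    ⁅v, x⁆ ∈ X := by
  rw [commutatorElement_def, mul_assoc, mul_assoc, ← mul_assoc x]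
  exact mul_mem hv (hX.conj_mem _ (inv_mem hv) x)

/-- The facts on a moving image `X`: `C(X) ≤ XD` and `D = V C_D(X)`. -/
theorem moving_facts {φ : MulAut S} (hm : ¬ im[φ] V ≤ 𝒟) {L : Subgroup S}
    (hL : ct V C₀ (im[φ] V) = L) :
    centralizer (im[φ] V : Set S) ≤ im[φ] V ⊔ 𝒟 ∧
      𝒟 ≤ V ⊔ (𝒟 ⊓ centralizer (im[φ] V : Set S)) ∧
      (∀ [L.Normal], chain V L C₀ = im[φ] V ⊔ 𝒟) := by
  subst hL
  set X := im[φ] V with hX
  have hXn : X.Normal := im_normal φ hVn
  have hXc := im_comm φ h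
  obtain ⟨hLc, hLcard⟩ := image_exact h φ
  have hex := exact_of_moves h hm
  haveI := ct_normal (V := V) (C₀ := C₀) hXn
  haveI : (centralizer (V : Set S)).Normal := Subgroup.normal_centralizer
  set P := chain V (ct V C₀ X) C₀ with hP
  have hXP : X ≤ P := fun x hx => mem_chain.2 ⟨fun v hv => by
    rw [hLc]
    refine ⟨commutator_mem_of_normal_left hVn hv, mem_centralizer_iff.2 fun y hy => ?_⟩
    exact hXc y hy _ (commutator_mem_of_normal hXn hx), fun v hv => (mem_ct.1 hv).2 x hx⟩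
  have hDP : 𝒟 ≤ P := fun d hd => mem_chain.2 ⟨fun v hv => by
      rw [commutatorElement_eq_one_iff_mul_comm.2 (mem_centralizer_iff.1 hd v hv)]; exact one_mem _,
    fun v hv => by
      rw [commutatorElement_eq_one_iff_mul_comm.2 (mem_centralizer_iff.1 hd v (mem_ct.1 hv).1)]
      exact one_mem _⟩
  have hCP : centralizer (X : Set S) ≤ P := fun g hg => mem_chain.2 ⟨fun v hv => by
    rw [hLc]
    refine ⟨commutator_mem_of_normal_left hVn hv, mem_centralizer_iff.2 fun x hx => ?_⟩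
    -- `x v x⁻¹ = c v` with `c` commuting with `g`
    set c := ⁅x, v⁆ with hc
    have hcX : c ∈ X := commutator_mem_of_normal_left hXn hx
    have hcV : c ∈ V := commutator_mem_of_normal hVn hv
    have hcg : c * g = g * c := mem_centralizer_iff.1 hg c hcX
    have hxg : x * g = g * x := mem_centralizer_iff.1 hg x hx
    have hcv : c * v = v * c := h.vab c hcV v hv
    have hxv : x * v * x⁻¹ = c * v := by rw [hc, commutatorElement_def]; group
    have key : x * ⁅v, g⁆ * x⁻¹ = ⁅v, g⁆ := by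
      calc x * ⁅v, g⁆ * x⁻¹ = (x * v * x⁻¹) * (x * g * x⁻¹) * (x * v * x⁻¹)⁻¹ * (x * g * x⁻¹)⁻¹ := by
            rw [commutatorElement_def]; group
        _ = (c * v) * g * (c * v)⁻¹ * g⁻¹ := by rw [hxv, show x * g * x⁻¹ = g by rw [hxg]; group]
        _ = v * (c * g * c⁻¹) * v⁻¹ * g⁻¹ := by rw [hcv]; group
        _ = ⁅v, g⁆ := by rw [hcg, commutatorElement_def]; group
    rw [mul_inv_eq_iff_eq_mul] at key
    exact key, fun v hv => by
    obtain ⟨a, ha, z, hz, rfl⟩ : ∃ a ∈ V ⊓ X, ∃ z ∈ V ⊓ C₀, a * z = v := by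
      have := h.span X hex hv
      rwa [mem_sup_of_normal_right] at this
    have hag : g * a * g⁻¹ = a := by
      rw [← mem_centralizer_iff.1 hg a (mem_inf.1 ha).2]; group
    have : ⁅a * z, g⁆ = a * ⁅z, g⁆ * a⁻¹ := by
      conv_lhs => rw [commutatorElement_def, mul_inv_rev]
      conv_rhs => rw [commutatorElement_def]
      calc a * z * g * (z⁻¹ * a⁻¹) * g⁻¹ = a * (z * g * z⁻¹ * g⁻¹) * (g * a⁻¹ * g⁻¹) := by group
        _ = a * (z * g * z⁻¹ * g⁻¹) * a⁻¹ := by
          rw [show g * a⁻¹ * g⁻¹ = (g * a * g⁻¹)⁻¹ by group, hag]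
    rw [this]
    exact Normal.conj_mem ‹C₀.Normal› _
      (commutator_mem_of_normal_left ‹C₀.Normal› (mem_inf.1 hz).2) a⟩
  have hPD : P ⊓ 𝒟 = 𝒟 := inf_eq_right.2 hDP
  have hb := h.chainBound X P hex chain_normal (fun v hv s hs => (mem_chain.1 hs).1 v hv)
    (fun v hv s hs => (mem_chain.1 hs).2 v hv)
  rw [hPD, hLcard] at hb
  have hsupcard := Core.card_sup_mul_card_inf X 𝒟
  rw [card_im] at hsupcard
  have hPeq : X ⊔ 𝒟 = P := eq_of_le_of_card_ge (sup_le hXP hDP)
    (Nat.le_of_mul_le_mul_right (hb.trans hsupcard.ge) Nat.card_pos)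
  refine ⟨hPeq ▸ hCP, ?_, fun {_} => hPeq.symm⟩
  set Γ := centralizer (X : Set S) with hΓ
  have hXΓ : X ≤ Γ := fun x hx => mem_centralizer_iff.2 fun y hy => hXc y hy x hx
  haveI : Γ.Normal := by
    rw [hΓ]; haveI := hXn; exact Subgroup.normal_centralizer
  have hΓeq : X ⊔ (𝒟 ⊓ Γ) = Γ := by
    refine le_antisymm (sup_le hXΓ inf_le_right) fun g hg => ?_
    have hg' : g ∈ X ⊔ 𝒟 := hPeq ▸ hCP hg
    rw [mem_sup_of_normal_right] at hg'
    obtain ⟨x, hx, d, hd, rfl⟩ := hg'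
    refine mul_mem_sup hx ⟨hd, ?_⟩
    have := mul_mem (inv_mem (hXΓ hx)) hg
    rwa [inv_mul_cancel_left] at this
  have e1 := Core.card_sup_mul_card_inf X (𝒟 ⊓ Γ)
  rw [hΓeq, card_im, show X ⊓ (𝒟 ⊓ Γ) = X ⊓ 𝒟 by
    rw [← inf_assoc]; exact inf_eq_left.2 (inf_le_left.trans hXΓ)] at e1
  have e2 := Core.card_sup_mul_card_inf V (𝒟 ⊓ Γ)
  have hVD : V ≤ 𝒟 := fun v hv => mem_centralizer_iff.2 fun w hw => h.vab w hw v hv
  rw [show V ⊓ (𝒟 ⊓ Γ) = ct V C₀ X by
    rw [hLc, ← inf_assoc, inf_eq_left.2 hVD],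
    hLcard, ← e1] at e2
  have hΓcard : Nat.card Γ = Nat.card 𝒟 := by rw [hΓ, hX, ← im_centralizer, card_im]
  have hle : V ⊔ (𝒟 ⊓ Γ) ≤ 𝒟 :=
    sup_le (fun v hv => mem_centralizer_iff.2 fun w hw => h.vab w hw v hv) inf_le_left
  refine (eq_of_le_of_card_ge hle ?_).ge
  rw [← hΓcard]
  exact (Nat.eq_of_mul_eq_mul_right Nat.card_pos e2).ge

/-- Two moving images span the same subgroup with `D` and have the same centraliser in `D`. -/
theorem moving_pair {φ ψ : MulAut S} (hφ : ¬ im[φ] V ≤ 𝒟) (hψ : ¬ im[ψ] V ≤ 𝒟) :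
    im[φ] V ⊔ 𝒟 = im[ψ] V ⊔ 𝒟 ∧
      𝒟 ⊓ centralizer (im[φ] V : Set S) ≤ centralizer (im[ψ] V : Set S) := by
  have hu := h.unique _ _ (exact_of_moves h hφ) (exact_of_moves h hψ)
  obtain ⟨-, -, h1⟩ := moving_facts h hφ rfl
  obtain ⟨-, h2, h3⟩ := moving_facts h hψ (hu.symm)
  haveI := ct_normal (V := V) (C₀ := C₀) (im_normal φ hVn : (im[φ] V).Normal)
  have hP : im[φ] V ⊔ 𝒟 = im[ψ] V ⊔ 𝒟 := h1.symm.trans h3
  refine ⟨hP, ?_⟩
  rintro c ⟨hcD, hcX⟩
  haveI : (centralizer (V : Set S)).Normal := Subgroup.normal_centralizer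
  haveI : (𝒟 ⊓ centralizer (im[ψ] V : Set S) : Subgroup S).Normal := by
    haveI := im_normal ψ hVn
    haveI : (centralizer (im[ψ] V : Set S)).Normal := Subgroup.normal_centralizer
    infer_instance
  have h2' := h2 hcD
  rw [mem_sup_of_normal_right] at h2'
  obtain ⟨v, hv, c', hc', hvc⟩ := h2'
  refine mem_centralizer_iff.2 fun x' hx' => ?_
  have hx'P : x' ∈ im[φ] V ⊔ 𝒟 := hP ▸ mem_sup_left hx'
  rw [mem_sup_of_normal_right] at hx'P
  obtain ⟨x, hx, δ, hδ, hxd⟩ := hx'P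
  have hxc : x * c = c * x := mem_centralizer_iff.1 hcX x hx
  have hc'x : x' * c' = c' * x' := mem_centralizer_iff.1 (mem_inf.1 hc').2 x' hx'
  have hc'v : v * c' = c' * v := mem_centralizer_iff.1 (mem_inf.1 hc').1 v hv
  have e1 : ⁅x', c⁆ = x * ⁅δ, c⁆ * x⁻¹ := by
    rw [← hxd]
    calc ⁅x * δ, c⁆ = x * (δ * c * δ⁻¹ * c⁻¹) * (c * x⁻¹ * c⁻¹) := by
          rw [commutatorElement_def]; group
      _ = x * ⁅δ, c⁆ * x⁻¹ := by
          rw [show c * x⁻¹ * c⁻¹ = (c * x * c⁻¹)⁻¹ by group, ← hxc, commutatorElement_def]; group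
  have e2 : ⁅x', c⁆ = ⁅x', v⁆ := by
    rw [← hvc]
    calc ⁅x', v * c'⁆ = x' * v * (c' * x'⁻¹) * c'⁻¹ * v⁻¹ := by
          rw [commutatorElement_def]; group
      _ = ⁅x', v⁆ := by
          rw [show c' * x'⁻¹ = x'⁻¹ * c' by
            rw [eq_inv_mul_iff_mul_eq, ← mul_assoc, hc'x]; group, commutatorElement_def]
          group
  have hmem : ∀ y ∈ im[ψ] V, ⁅v, y⁆ ∈ C₀ := by
    intro y hy
    have hyP : y ∈ im[φ] V ⊔ 𝒟 := hP ▸ mem_sup_left hy
    rw [mem_sup_of_normal_right] at hyP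
    obtain ⟨a, ha, δ', hδ', hyd⟩ := hyP
    have hac : a * c = c * a := mem_centralizer_iff.1 hcX a ha
    have hyc' : y * c' = c' * y := mem_centralizer_iff.1 (mem_inf.1 hc').2 y hy
    have e3 : ⁅y, v⁆ = a * ⁅δ', c⁆ * a⁻¹ := by
      have e4 : ⁅y, c⁆ = ⁅y, v⁆ := by
        rw [← hvc]
        calc ⁅y, v * c'⁆ = y * v * (c' * y⁻¹) * c'⁻¹ * v⁻¹ := by
              rw [commutatorElement_def]; group
          _ = ⁅y, v⁆ := by
              rw [show c' * y⁻¹ = y⁻¹ * c' by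
                rw [eq_inv_mul_iff_mul_eq, ← mul_assoc, hyc']; group, commutatorElement_def]
              group
      rw [← e4, ← hyd]
      calc ⁅a * δ', c⁆ = a * (δ' * c * δ'⁻¹ * c⁻¹) * (c * a⁻¹ * c⁻¹) := by
            rw [commutatorElement_def]; group
        _ = a * ⁅δ', c⁆ * a⁻¹ := by
            rw [show c * a⁻¹ * c⁻¹ = (c * a * c⁻¹)⁻¹ by group, ← hac, commutatorElement_def]; group
    rw [← commutatorElement_inv, e3]
    exact inv_mem (Normal.conj_mem ‹C₀.Normal› _ (h.dd δ' hδ' c hcD) a)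
  have hvL : v ∈ V ⊓ centralizer (im[ψ] V : Set S) := by
    rw [← (image_exact h ψ).1]
    exact mem_ct.2 ⟨hv, hmem⟩
  rw [← hvc, ← mul_assoc, mem_centralizer_iff.1 hvL.2 x' hx', mul_assoc, hc'x, ← mul_assoc]

/-- **The twin argument.** An automorphism of odd order maps `V` into `C(V)`. -/
theorem image_le (b : MulAut S) (hodd : Odd (orderOf b)) : im[b] V ≤ 𝒟 := by
  by_contra hb
  have hb' : ¬ im[b⁻¹] V ≤ 𝒟 := fun hle => hb fun x hx => by
    obtain ⟨v, hv, rfl⟩ := hx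
    refine mem_centralizer_iff.2 fun w hw => ?_
    have := mem_centralizer_iff.1 (hle ⟨w, hw, rfl⟩) v hv
    simpa using (congrArg b this).symm
  set X := im[b] V with hX
  set X' := im[b⁻¹] V with hX'
  obtain ⟨hP, hC⟩ := moving_pair h hb hb'
  obtain ⟨-, hC'⟩ := moving_pair h hb' hb
  obtain ⟨hCX, -, -⟩ := moving_facts h hb rfl
  obtain ⟨hCX', hD', -⟩ := moving_facts h hb' rfl
  haveI hDn : (centralizer (V : Set S)).Normal := Subgroup.normal_centralizer
  have hXc := im_comm b h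
  have hX'c := im_comm b⁻¹ h
  -- the two images commute
  have hcomm : X' ≤ centralizer (X : Set S) := by
    by_cases h2 : im[b⁻¹ * b⁻¹] V ≤ 𝒟
    · intro x' hx'
      obtain ⟨v, hv, rfl⟩ := hx'
      refine mem_centralizer_iff.2 ?_
      rintro _ ⟨w, hw, rfl⟩
      have := mem_centralizer_iff.1 (h2 ⟨v, hv, rfl⟩) w hw
      simpa using congrArg b this
    obtain ⟨hP2, -⟩ := moving_pair h hb' h2
    have e := congrArg (Subgroup.map (MulEquiv.toMonoidHom b)) hP2
    rw [Subgroup.map_sup, Subgroup.map_sup, im_im, im_im, mul_inv_cancel, im_one,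
      im_centralizer, ← mul_assoc, mul_inv_cancel, one_mul] at e
    -- `V C(X) = X' C(X)`
    set Γ := centralizer (X : Set S) with hΓ
    haveI : Γ.Normal := by
      haveI := im_normal b hVn
      rw [hΓ]; exact Subgroup.normal_centralizer
    have e1 := Core.card_sup_mul_card_inf V Γ
    have e2 := Core.card_sup_mul_card_inf X' Γ
    rw [← e, card_im] at e2
    have hcard : Nat.card (X' ⊓ Γ : Subgroup S) = Nat.card (X' ⊓ 𝒟 : Subgroup S) := by
      rw [← (image_exact h b⁻¹).2, h.unique _ _ (exact_of_moves h hb') (exact_of_moves h hb),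
        (image_exact h b).1]
      exact Nat.eq_of_mul_eq_mul_left Nat.card_pos (e2.trans e1.symm)
    have hle : X' ⊓ 𝒟 ≤ X' ⊓ Γ := fun d hd => ⟨hd.1, hC' ⟨hd.2, mem_centralizer_iff.2 fun y hy =>
      hX'c y hy d hd.1⟩⟩
    have heq := eq_of_le_of_card_ge hle hcard.le
    obtain ⟨y, hy, hgood⟩ := h.good _ (exact_of_moves h hb')
    exfalso
    have hyP : y ∈ X ⊔ 𝒟 := hP.ge (mem_sup_left hy)
    rw [mem_sup_of_normal_right] at hyP
    obtain ⟨x, hx, δ, hδ, hxd⟩ := hyP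
    have hδ' := (moving_facts h hb rfl).2.1 hδ
    haveI : (𝒟 ⊓ Γ : Subgroup S).Normal := by infer_instance
    rw [mem_sup_of_normal_right] at hδ'
    obtain ⟨v, hv, c, hc, hvc⟩ := hδ'
    have hcx : x * c = c * x := mem_centralizer_iff.1 hc.2 x hx
    have hcv : v * c = c * v := mem_centralizer_iff.1 hc.1 v hv
    have hsq : ∀ {φ : MulAut S} {z : S}, z ∈ im[φ] V → z * z = 1 := by
      rintro φ _ ⟨z, hz, rfl⟩
      simp only [MulEquiv.coe_toMonoidHom, ← map_mul, h.vsq z hz, map_one]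
    have hx2 : x⁻¹ = x := inv_eq_of_mul_eq_one_right (hsq hx)
    have hv2 : v⁻¹ = v := inv_eq_of_mul_eq_one_right (h.vsq v hv)
    have hyc : y = x * v * c := by rw [← hxd, ← hvc, mul_assoc]
    have h1 : ⁅x, v⁆ * (c * c) = 1 := by
      have e3 := hsq hy
      rw [hyc] at e3
      calc ⁅x, v⁆ * (c * c) = x * v * (x * v * c) * c := by
            rw [commutatorElement_def, hx2, hv2]; group
        _ = x * v * (c * x * v) * c := by
            rw [show x * v * c = c * x * v by rw [mul_assoc, hcv, ← mul_assoc, hcx]]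
        _ = 1 := by rw [← e3]; group
    have hxv : ⁅x, v⁆ ∈ C₀ := by
      rw [eq_inv_of_mul_eq_one_left h1]
      exact inv_mem (h.dsq c hc.1)
    have hvy : ⁅v, y⁆ ∈ C₀ := by
      have e4 : ⁅v, y⁆ = ⁅v, x⁆ := by
        rw [hyc]
        calc ⁅v, x * v * c⁆ = v * x * v * (c * v⁻¹) * c⁻¹ * v⁻¹ * x⁻¹ := by
              rw [commutatorElement_def]; group
          _ = ⁅v, x⁆ := by
              rw [show c * v⁻¹ = v⁻¹ * c by
                rw [eq_inv_mul_iff_mul_eq, ← mul_assoc, hcv]; group, commutatorElement_def]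
              group
      rw [e4, ← commutatorElement_inv]
      exact inv_mem hxv
    have hvL := hgood v hv hvy
    rw [h.unique _ _ (exact_of_moves h hb') (exact_of_moves h hb), (image_exact h b).1] at hvL
    have hyΓ : y ∈ X' ⊓ Γ := ⟨hy, by
      rw [hyc]
      exact mul_mem (mul_mem (mem_centralizer_iff.2 fun z hz => hXc z hz x hx) hvL.2) hc.2⟩
    rw [← heq] at hyΓ
    refine hb' fun z hz => mem_centralizer_iff.2 fun w hw => ?_
    have hw' := hgood w hw (by
      rw [commutatorElement_eq_one_iff_mul_comm.2 (mem_centralizer_iff.1 hyΓ.2 w hw)]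
      exact one_mem _)
    rw [(image_exact h b⁻¹).1] at hw'
    exact (mem_centralizer_iff.1 hw'.2 z hz).symm
  -- so they have the same centraliser
  have hle : centralizer (X' : Set S) ≤ centralizer (X : Set S) := by
    intro g hg
    have hg' := hCX' hg
    rw [mem_sup_of_normal_right] at hg'
    obtain ⟨x', hx', d, hd, rfl⟩ := hg'
    refine mul_mem (hcomm hx') (hC' ⟨hd, ?_⟩)
    have hx'C : x' ∈ centralizer (X' : Set S) := mem_centralizer_iff.2 fun y hy => hX'c y hy x' hx'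
    have := mul_mem (inv_mem hx'C) hg
    rwa [inv_mul_cancel_left] at this
  have heq : centralizer (X' : Set S) = centralizer (X : Set S) := eq_of_le_of_card_ge hle (by
    rw [hX, hX', ← im_centralizer, ← im_centralizer, card_im, card_im])
  rw [hX, hX', ← im_centralizer, ← im_centralizer] at heq
  have hbb : im[b * b] 𝒟 = 𝒟 := by
    rw [← im_im, ← heq, im_im, mul_inv_cancel, im_one]
  have hpow : ∀ k : ℕ, im[(b * b) ^ k] 𝒟 = 𝒟 := by
    intro k
    induction k with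
    | zero => rw [pow_zero, im_one]
    | succ k ih => rw [pow_succ, ← im_im, hbb, ih]
  obtain ⟨j, hj⟩ := hodd
  have hfix : im[b] 𝒟 = 𝒟 := by
    have := hpow (j + 1)
    rwa [← pow_two, ← pow_mul, show 2 * (j + 1) = orderOf b + 1 by omega, pow_succ,
      pow_orderOf_eq_one, one_mul] at this
  refine hb fun x hx => ?_
  rw [← hfix, im_centralizer]
  exact mem_centralizer_iff.2 fun y hy => hXc y hy x hx

end Cfsg.Agent.PushOdd
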