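import Cfsg.Agent.PushOdd.Core
import Cfsg.Agent.PushOdd.Block

/-!
# An orbit of blocks gives the hypotheses of the twin argument

`ℬ` is an orbit of a Sylow 2-subgroup `T` on pairwise commuting blocks and `V` the product of their
modules, so `V / C_V(ℬ)` is the product of the sections of the blocks.
-/

set_option autoImplicit false
set_option linter.unusedSectionVars false
set_option linter.style.haveILetI false

namespace Cfsg.Agent.PushOdd

open Subgroup LocalCGT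
open Baumann.Sub (SBlock bW bWE bZ bQ gV)
open scoped commutatorElement

universe u

/-- A map into a product whose fibres lie in cosets of `Z` bounds the order; if the bound is
attained it is surjective. -/
theorem card_le_mul_pi {G : Type*} [Group G] [Finite G] {ι : Type*} [Fintype ι] {X : ι → Type*}
    [∀ i, Finite (X i)] (U Z : Subgroup G) (f : ↥U → ∀ i, X i) (S : ∀ i, Set (X i))
    (hS : ∀ u i, f u i ∈ S i) (hfib : ∀ a b, f a = f b → (a : G) * (b : G)⁻¹ ∈ Z) :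
    Nat.card U ≤ Nat.card Z * ∏ i, Nat.card (S i) ∧
      (Nat.card Z * ∏ i, Nat.card (S i) ≤ Nat.card U →
        ∀ s : ∀ i, X i, (∀ i, s i ∈ S i) → ∃ u, f u = s) := by
  classical
  let rep : (∀ i, X i) → ↥U := fun s => if h : ∃ u, f u = s then Classical.choose h else 1
  have hrep : ∀ u, f (rep (f u)) = f u := fun u => by
    have h : ∃ u', f u' = f u := ⟨u, rfl⟩
    simp only [rep, dif_pos h]
    exact Classical.choose_spec h
  let g : ↥U → ↥Z × (∀ i, S i) := fun u =>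
    (⟨(u : G) * (rep (f u) : G)⁻¹, hfib _ _ (hrep u).symm⟩, fun i => ⟨f u i, hS u i⟩)
  have hg : Function.Injective g := by
    intro a b h
    simp only [g, Prod.mk.injEq, Subtype.mk.injEq] at h
    have e : f a = f b := funext fun i => congrArg Subtype.val (congrFun h.2 i)
    have h1 := h.1
    rw [e] at h1
    exact Subtype.ext (mul_right_cancel h1)
  have hcard : Nat.card (↥Z × (∀ i, S i)) = Nat.card Z * ∏ i, Nat.card (S i) := by
    rw [Nat.card_prod, Nat.card_pi]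
  refine ⟨hcard ▸ Nat.card_le_card_of_injective g hg, fun hge s hs => ?_⟩
  obtain ⟨u, hu⟩ := ((Nat.bijective_iff_injective_and_card g).2
    ⟨hg, le_antisymm (Nat.card_le_card_of_injective g hg) (hcard.trans_le hge)⟩).2
    (1, fun i => ⟨s i, hs i⟩)
  exact ⟨u, funext fun i => congrArg Subtype.val (congrFun (congrArg Prod.snd hu) i)⟩

/-- Termwise equality in a product inequality. -/
theorem eq_of_prod_le {ι : Type*} [Fintype ι] {f g : ι → ℕ} (hf : ∀ i, 0 < f i)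
    (hle : ∀ i, f i ≤ g i) (h : ∏ i, g i ≤ ∏ i, f i) (i : ι) : f i = g i := by
  by_contra hne
  exact absurd h (not_le.2 (Finset.prod_lt_prod (fun i _ => hf i) (fun i _ => hle i)
    ⟨i, Finset.mem_univ i, lt_of_le_of_ne (hle i) hne⟩))

variable {G : Type u} [Group G] [Finite G]

local notation "cj[" g "]" => MulEquiv.toMonoidHom (MulAut.conj g)

theorem mem_centralizer_map {E : Subgroup G} {c : G} (h : c ∈ centralizer (E : Set G)) (g : G) :
    g * c * g⁻¹ ∈ centralizer (E.map cj[g] : Set G) := by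
  refine mem_centralizer_iff.2 ?_
  rintro _ ⟨e, he, rfl⟩
  show g * e * g⁻¹ * (g * c * g⁻¹) = g * c * g⁻¹ * (g * e * g⁻¹)
  calc g * e * g⁻¹ * (g * c * g⁻¹) = g * (e * c) * g⁻¹ := by group
    _ = g * (c * e) * g⁻¹ := by rw [mem_centralizer_iff.1 h e he]
    _ = _ := by group

theorem conj_mem_centralizer {E : Subgroup G} {c x : G} (hx : x ∈ normalizer (E : Set G))
    (h : c ∈ centralizer (E : Set G)) : x * c * x⁻¹ ∈ centralizer (E : Set G) := by
  have := mem_centralizer_map h x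
  have e : E.map cj[x] = E := mem_normalizer_iff_map_conj_eq.1 hx
  rwa [e] at this

/-- An orbit of `T` on pairwise commuting blocks. -/
structure Orbit (T : Sylow 2 G) (ℬ : Set (Subgroup G)) : Prop where
  hG : centralizer (Cfsg.pCore 2 G : Set G) ≤ Cfsg.pCore 2 G
  blk : ∀ E ∈ ℬ, Cfsg.IsBaumannBlock 2 (T : Subgroup G) E
  out : ∀ E ∈ ℬ, ¬ E ≤ Cfsg.cStarOf 2 (T : Subgroup G)
  sub : ∀ E ∈ ℬ, E.IsSubnormal
  deg : ∀ E ∈ ℬ, ∀ m : ℕ, Nonempty (↥E ⧸ Cfsg.pCore 2 ↥E ≃* ↥(alternatingGroup (Fin (2 * m + 1)))) →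
    ∃ n : ℕ, 2 * m + 1 = 2 ^ n + 1
  comm : ∀ E ∈ ℬ, ∀ F ∈ ℬ, E ≠ F → ⁅E, F⁆ = ⊥
  conj : ∀ t ∈ (T : Subgroup G), ∀ E ∈ ℬ, E.map cj[t] ∈ ℬ
  trans : ∀ E ∈ ℬ, ∀ F ∈ ℬ, ∃ t ∈ (T : Subgroup G), E.map cj[t] = F
  ne : ℬ.Nonempty

/-- The product of the modules. -/
def orbV (ℬ : Set (Subgroup G)) : Subgroup G := ⨆ E ∈ ℬ, bWE 2 E

variable {T : Sylow 2 G} {ℬ : Set (Subgroup G)}

/-- The module inside `T`. -/
def orbVT (T : Sylow 2 G) (ℬ : Set (Subgroup G)) : Subgroup ↥(T : Subgroup G) :=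
  (orbV ℬ).subgroupOf (T : Subgroup G)

/-- The centraliser of the blocks in `T`. -/
def orbC (T : Sylow 2 G) (ℬ : Set (Subgroup G)) : Subgroup ↥(T : Subgroup G) :=
  (⨅ E ∈ ℬ, centralizer (E : Set G)).subgroupOf (T : Subgroup G)

theorem mem_orbVT {x : ↥(T : Subgroup G)} : x ∈ orbVT T ℬ ↔ (x : G) ∈ orbV ℬ := mem_subgroupOf

theorem mem_orbC {x : ↥(T : Subgroup G)} :
    x ∈ orbC T ℬ ↔ ∀ E ∈ ℬ, (x : G) ∈ centralizer (E : Set G) := by
  simp only [orbC, mem_subgroupOf, Subgroup.mem_iInf]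

namespace Orbit

variable (o : Orbit T ℬ)
include o

theorem sblock {E : Subgroup G} (hE : E ∈ ℬ) : SBlock 2 E := ⟨⟨T, o.blk E hE⟩, o.sub E hE⟩

theorem WE_le_V {E : Subgroup G} (hE : E ∈ ℬ) : bWE 2 E ≤ orbV ℬ :=
  le_iSup₂_of_le E hE le_rfl

theorem V_le_gV : orbV ℬ ≤ gV 2 G :=
  iSup₂_le fun _ hE => Baumann.Sub.WE_le_gV o.hG (o.sblock hE)

theorem V_le_T : orbV ℬ ≤ (T : Subgroup G) :=
  o.V_le_gV.trans (Baumann.Sub.gV_le.trans (Core.pCore_le_sylow T))

theorem V_comm {v w : G} (hv : v ∈ orbV ℬ) (hw : w ∈ orbV ℬ) : v * w = w * v :=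
  mem_centralizer_iff.1 ((Thompson.ea_iff.1 Baumann.Sub.gV_ea).1 (o.V_le_gV hw)) v (o.V_le_gV hv)

theorem V_sq {v : G} (hv : v ∈ orbV ℬ) : v * v = 1 := by
  rw [← pow_two]
  exact (Thompson.ea_iff.1 Baumann.Sub.gV_ea).2 v (o.V_le_gV hv)

theorem WE_comm {E F : Subgroup G} (hE : E ∈ ℬ) (hF : F ∈ ℬ) (hne : E ≠ F) {w : G}
    (hw : w ∈ bWE 2 E) : w ∈ centralizer (F : Set G) :=
  commutator_eq_bot_iff_le_centralizer.1 (o.comm E hE F hF hne)
    (Degree.WE_le_E (o.sblock hE) hw)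

theorem conj_WE (t : G) (E : Subgroup G) {w : G} (hw : w ∈ bWE 2 E) :
    t * w * t⁻¹ ∈ bWE 2 (E.map cj[t]) := by
  rw [← Baumann.Sub.map_bWE]
  exact ⟨w, hw, rfl⟩

theorem V_conj {t v : G} (ht : t ∈ (T : Subgroup G)) (hv : v ∈ orbV ℬ) :
    t * v * t⁻¹ ∈ orbV ℬ := by
  suffices h : orbV ℬ ≤ (orbV ℬ).comap cj[t] from h hv
  refine iSup₂_le fun E hE w hw => ?_
  exact o.WE_le_V (o.conj t ht E hE) (o.conj_WE t E hw)

theorem decomp {E : Subgroup G} (hE : E ∈ ℬ) {v : G} (hv : v ∈ orbV ℬ) :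
    ∃ w ∈ bWE 2 E, v * w⁻¹ ∈ centralizer (E : Set G) := by
  have hle : orbV ℬ ≤ centralizer (E : Set G) ⊔ bWE 2 E := iSup₂_le fun F hF => by
    by_cases e : F = E
    · exact e ▸ le_sup_right
    · exact le_trans (fun w hw => o.WE_comm hF hE e hw) le_sup_left
  have hn : centralizer (E : Set G) ≤ normalizer (bWE 2 E : Set G) :=
    (centralizer_le_normalizer _).trans (Baumann.Sub.normalizer_le_bWE (o.sblock hE))
  have h := hle hv
  rw [← SetLike.mem_coe, coe_mul_of_left_le_normalizer_right _ _ hn] at h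
  obtain ⟨c, hc, w, hw, rfl⟩ := h
  exact ⟨w, hw, by rw [mul_inv_cancel_right]; exact hc⟩

theorem VT_normal : (orbVT T ℬ).Normal :=
  ⟨fun v hv t => mem_orbVT.2 (by
    rw [Subgroup.coe_mul, Subgroup.coe_mul, Subgroup.coe_inv]
    exact o.V_conj t.2 (mem_orbVT.1 hv))⟩

theorem C_normal : (orbC T ℬ).Normal := by
  refine ⟨fun c hc t => mem_orbC.2 fun E hE => ?_⟩
  have hF := o.conj _ (inv_mem t.2) E hE
  have h := mem_centralizer_map (mem_orbC.1 hc _ hF) (t : G)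
  rw [Subgroup.map_map] at h
  rw [Subgroup.coe_mul, Subgroup.coe_mul, Subgroup.coe_inv]
  have e : Subgroup.map (cj[(t : G)].comp cj[(t : G)⁻¹]) E = E := by
    conv_rhs => rw [← Subgroup.map_id E]
    congr 1
    ext x
    simp [mul_assoc]
  rwa [e] at h

theorem bdata {E : Subgroup G} (hE : E ∈ ℬ) : Nonempty (BData T E (orbV ℬ)) :=
  exists_bdata o.hG (o.blk E hE) (o.out E hE) (o.sub E hE) (o.deg E hE) (o.WE_le_V hE)
    fun _ hv => o.decomp hE hv

theorem WE_not_central {E : Subgroup G} (hE : E ∈ ℬ) :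
    ∃ w ∈ bWE 2 E, w ∉ centralizer (E : Set G) := by
  obtain ⟨d⟩ := o.bdata hE
  by_contra hno
  push Not at hno
  haveI := d.fin
  have h2 := d.two_lt
  have : Nat.card d.Wt ≤ 1 := by
    refine Finite.card_le_one_iff_subsingleton.2 ⟨fun a b => ?_⟩
    obtain ⟨x, hx, rfl⟩ := d.θ_surj a
    obtain ⟨y, hy, rfl⟩ := d.θ_surj b
    exact (d.θ_eq _ _).2 (mul_mem (hno _ hx) (inv_mem (hno _ hy)))
  omega

/-- `C_T(V)` normalises every block. -/
theorem cent_normalizes {x : G} (hx : x ∈ (T : Subgroup G))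
    (hc : ∀ v ∈ orbV ℬ, v * x = x * v) {E : Subgroup G} (hE : E ∈ ℬ) :
    x ∈ normalizer (E : Set G) := by
  refine mem_normalizer_iff_map_conj_eq.2 ?_
  by_contra hne
  obtain ⟨w, hw, hwn⟩ := o.WE_not_central hE
  refine hwn ?_
  have hw' := o.conj_WE x E hw
  rw [← hc w (o.WE_le_V hE hw), mul_inv_cancel_right] at hw'
  exact o.WE_comm (o.conj x hx E hE) hE hne hw'

end Orbit

/-! ### The sections together -/

/-- Chosen data for all blocks of an orbit. -/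
structure OData (T : Sylow 2 G) (ℬ : Set (Subgroup G)) where
  o : Orbit T ℬ
  d : ∀ i : ℬ, BData T (i : Subgroup G) (orbV ℬ)

namespace OData

variable (D : OData T ℬ)

noncomputable local instance : Fintype ↥ℬ := Fintype.ofFinite _

instance (i : ℬ) : Finite (D.d i).Wt := (D.d i).fin

set_option quotPrecheck false in
local notation "V₀" => orbVT T ℬ
set_option quotPrecheck false in
local notation "C₀" => orbC T ℬ
set_option quotPrecheck false in
local notation "𝒟" => centralizer (SetLike.coe (orbVT T ℬ))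

/-- The components of an element of `V`. -/
def Θ (v : ↥(T : Subgroup G)) (hv : v ∈ V₀) (i : ℬ) : (D.d i).Wt :=
  (D.d i).θ ⟨v, mem_orbVT.1 hv⟩

/-- The fixed components of a subgroup. -/
def fixSet (Y : Subgroup ↥(T : Subgroup G)) (i : ℬ) : Set (D.d i).Wt :=
  {w | ∀ σ ∈ (((Y.map (T : Subgroup G).subtype)).subgroupOf
    (normalizer ((i : Subgroup G) : Set G))).map (D.d i).π, σ w = w}

/-- The group induced on one section. -/
def img (Y : Subgroup ↥(T : Subgroup G)) (i : ℬ) : Subgroup (Equiv.Perm (D.d i).Wt) :=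
  (((Y.map (T : Subgroup G).subtype)).subgroupOf
    (normalizer ((i : Subgroup G) : Set G))).map (D.d i).π

/-- The common fixed set. -/
noncomputable def L (i : ℬ) : Set (D.d i).Wt := Classical.choose (D.d i).exact'

variable {D}

theorem theta_eq {v v' : ↥(T : Subgroup G)} {hv : v ∈ V₀} {hv' : v' ∈ V₀} {i : ℬ} :
    D.Θ v hv i = D.Θ v' hv' i ↔ (v : G) * (v' : G)⁻¹ ∈ centralizer ((i : Subgroup G) : Set G) :=
  (D.d i).θ_eq _ _

theorem mem_img {Y : Subgroup ↥(T : Subgroup G)} {y : ↥(T : Subgroup G)} (hy : y ∈ Y) {i : ℬ}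
    (hyi : (y : G) ∈ normalizer ((i : Subgroup G) : Set G)) :
    (D.d i).π ⟨y, hyi⟩ ∈ D.img Y i :=
  ⟨_, mem_subgroupOf.2 ⟨y, hy, rfl⟩, rfl⟩

theorem exists_of_img {Y : Subgroup ↥(T : Subgroup G)} {i : ℬ} {σ : Equiv.Perm (D.d i).Wt}
    (hσ : σ ∈ D.img Y i) : ∃ (y : ↥(T : Subgroup G)) (_ : y ∈ Y)
      (hyi : (y : G) ∈ normalizer ((i : Subgroup G) : Set G)), (D.d i).π ⟨y, hyi⟩ = σ := by
  obtain ⟨⟨_, hn⟩, hx, rfl⟩ := hσ
  obtain ⟨y, hy, rfl⟩ := mem_subgroupOf.1 hx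
  exact ⟨y, hy, hn, rfl⟩

theorem comm_mem_iff {v y : ↥(T : Subgroup G)} (hv : v ∈ V₀) {i : ℬ}
    (hyi : (y : G) ∈ normalizer ((i : Subgroup G) : Set G)) :
    ((⁅v, y⁆ : ↥(T : Subgroup G)) : G) ∈ centralizer ((i : Subgroup G) : Set G) ↔
      (D.d i).π ⟨y, hyi⟩ (D.Θ v hv i) = D.Θ v hv i := by
  have hv' := mem_orbVT.1 hv
  have hw := D.o.V_conj y.2 hv'
  rw [show (D.d i).π ⟨y, hyi⟩ (D.Θ v hv i) = (D.d i).θ ⟨_, hw⟩ from
      (D.d i).spec ⟨y, hyi⟩ ⟨v, hv'⟩ ⟨_, hw⟩ rfl, eq_comm, Θ, (D.d i).θ_eq]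
  rw [commutatorElement_def]
  show _ ↔ (v : G) * ((y : G) * v * (y : G)⁻¹)⁻¹ ∈ _
  rw [show (v : G) * ((y : G) * v * (y : G)⁻¹)⁻¹ = (v : G) * y * (v : G)⁻¹ * (y : G)⁻¹ by group,
    Subgroup.coe_mul, Subgroup.coe_mul, Subgroup.coe_mul, Subgroup.coe_inv, Subgroup.coe_inv]

/-- The elements of `V ⊓ C₀` are those with trivial components. -/
theorem fib_mem {a b : ↥(T : Subgroup G)} (ha : a ∈ V₀) (hb : b ∈ V₀)
    (h : ∀ i : ℬ, D.Θ a ha i = D.Θ b hb i) : a * b⁻¹ ∈ V₀ ⊓ C₀ :=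
  Subgroup.mem_inf.2 ⟨mul_mem ha (inv_mem hb), mem_orbC.2 fun E hE => by
    rw [Subgroup.coe_mul, Subgroup.coe_inv]
    exact theta_eq.1 (h ⟨E, hE⟩)⟩

theorem exists_theta (w : ∀ i : ℬ, (D.d i).Wt) :
    ∃ (v : ↥(T : Subgroup G)) (hv : v ∈ V₀), ∀ i, D.Θ v hv i = w i := by
  classical
  suffices h : ∀ s : Finset ℬ, ∃ (v : ↥(T : Subgroup G)) (hv : v ∈ V₀),
      ∀ i, (i ∈ s → D.Θ v hv i = w i) ∧
        (i ∉ s → (v : G) ∈ centralizer ((i : Subgroup G) : Set G)) by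
    obtain ⟨v, hv, hh⟩ := h Finset.univ
    exact ⟨v, hv, fun i => (hh i).1 (Finset.mem_univ i)⟩
  intro s
  induction s using Finset.induction with
  | empty => exact ⟨1, one_mem _, fun i => ⟨fun h => absurd h (Finset.notMem_empty i), fun _ =>
      one_mem _⟩⟩
  | @insert j s hj ih =>
    obtain ⟨v, hv, hh⟩ := ih
    obtain ⟨u, huW, hu⟩ := (D.d j).θ_surj (w j)
    set u' : ↥(T : Subgroup G) := ⟨u, D.o.V_le_T u.2⟩
    have hu' : u' ∈ V₀ := mem_orbVT.2 u.2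
    refine ⟨v * u', mul_mem hv hu', fun i => ⟨fun hi => ?_, fun hi => ?_⟩⟩
    · rcases Finset.mem_insert.1 hi with rfl | his
      · rw [← hu]
        refine ((D.d i).θ_eq _ _).2 ?_
        show ((v * u' : ↥(T : Subgroup G)) : G) * (u : G)⁻¹ ∈ _
        rw [Subgroup.coe_mul, mul_inv_cancel_right]
        exact (hh i).2 hj
      · have hne : (j : Subgroup G) ≠ i := fun e => hj (Subtype.ext e ▸ his)
        rw [← (hh i).1 his, theta_eq, Subgroup.coe_mul,
          D.o.V_comm (mem_orbVT.1 hv) u.2, mul_inv_cancel_right]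
        exact D.o.WE_comm j.2 i.2 hne huW
    · rw [Finset.mem_insert, not_or] at hi
      rw [Subgroup.coe_mul]
      exact mul_mem ((hh i).2 hi.2)
        (D.o.WE_comm j.2 i.2 (fun e => hi.1 (Subtype.ext e.symm)) huW)

theorem card_V : Nat.card V₀ = Nat.card (V₀ ⊓ C₀ : Subgroup ↥(T : Subgroup G)) *
    ∏ i : ℬ, Nat.card (D.d i).Wt := by
  refine le_antisymm ?_ ?_
  · refine (card_le_mul_pi V₀ (V₀ ⊓ C₀) (fun v i => D.Θ v v.2 i) (fun _ => Set.univ)
      (fun _ _ => Set.mem_univ _) fun a b h => fib_mem a.2 b.2 fun i => congrFun h i).1.trans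
      (le_of_eq ?_)
    simp only [Nat.card_univ]
  · rw [← Nat.card_pi, ← Nat.card_prod]
    choose rep hrep hrep' using exists_theta (D := D)
    refine Nat.card_le_card_of_injective
      (fun x : (V₀ ⊓ C₀ : Subgroup ↥(T : Subgroup G)) × (∀ i : ℬ, (D.d i).Wt) =>
        (⟨(x.1 : ↥(T : Subgroup G)) * rep x.2, mul_mem x.1.2.1 (hrep x.2)⟩ : V₀)) ?_
    rintro ⟨⟨z, hz⟩, w⟩ ⟨⟨z', hz'⟩, w'⟩ h
    have h' : z * rep w = z' * rep w' := congrArg Subtype.val h
    have hw : w = w' := funext fun i => by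
      rw [← hrep' w i, ← hrep' w' i, theta_eq]
      have e : rep w * (rep w')⁻¹ = z⁻¹ * z' := by
        rw [mul_inv_eq_iff_eq_mul, mul_assoc, ← h', inv_mul_cancel_left]
      rw [← Subgroup.coe_inv, ← Subgroup.coe_mul, e]
      rw [Subgroup.coe_mul, Subgroup.coe_inv]
      exact mul_mem (inv_mem (mem_orbC.1 hz.2 i i.2)) (mem_orbC.1 hz'.2 i i.2)
    subst hw
    exact Prod.ext (Subtype.ext (mul_right_cancel h')) rfl

/-- Conjugate blocks have sections of the same size. -/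
theorem card_Wt_conj {t : G} (ht : t ∈ (T : Subgroup G)) {i j : ℬ}
    (h : (i : Subgroup G).map cj[t] = j) : Nat.card (D.d i).Wt ≤ Nat.card (D.d j).Wt := by
  choose rep _ hrep using (D.d i).θ_surj
  refine Nat.card_le_card_of_injective
    (fun w => (D.d j).θ ⟨t * (rep w : G) * t⁻¹, D.o.V_conj ht (rep w).2⟩) fun w w' e => ?_
  rw [← hrep w, ← hrep w', (D.d i).θ_eq]
  have h1 : t * ((rep w : G) * (rep w' : G)⁻¹) * t⁻¹ ∈
      centralizer ((j : Subgroup G) : Set G) := by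
    have := ((D.d j).θ_eq _ _).1 e
    rw [show t * ((rep w : G) * (rep w' : G)⁻¹) * t⁻¹ =
      t * (rep w : G) * t⁻¹ * (t * (rep w' : G) * t⁻¹)⁻¹ by group]
    exact this
  refine mem_centralizer_iff.2 fun e' he' => ?_
  have hx := mem_centralizer_iff.1 h1 (t * e' * t⁻¹) (h ▸ ⟨e', he', rfl⟩)
  refine mul_left_cancel (a := t) (mul_right_cancel (b := t⁻¹) ?_)
  calc t * (e' * ((rep w : G) * (rep w' : G)⁻¹)) * t⁻¹
      = t * e' * t⁻¹ * (t * ((rep w : G) * (rep w' : G)⁻¹) * t⁻¹) := by group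
    _ = _ := hx
    _ = _ := by group

/-- An element of `Y` centralising every module lies in `C(V)`. -/
theorem mem_cent {x : ↥(T : Subgroup G)}
    (h : ∀ i : ℬ, (x : G) ∈ centralizer (bWE 2 (i : Subgroup G) : Set G)) : x ∈ 𝒟 := by
  refine mem_centralizer_iff.2 fun v hv => ?_
  have hle : orbV ℬ ≤ centralizer ({(x : G)} : Set G) := iSup₂_le fun E hE w hw =>
    mem_centralizer_singleton_iff.2 (mem_centralizer_iff.1 (h ⟨E, hE⟩) w hw)
  exact Subtype.ext (by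
    rw [Subgroup.coe_mul, Subgroup.coe_mul]
    exact mem_centralizer_singleton_iff.1 (hle (mem_orbVT.1 hv)))

/-- Membership in `ct`. -/
theorem mem_ct_iff [(orbC T ℬ).Normal] {Y : Subgroup ↥(T : Subgroup G)} {v : ↥(T : Subgroup G)} :
    v ∈ ct V₀ C₀ Y ↔ v ∈ V₀ ∧ ∀ y ∈ Y, ∀ i : ℬ,
      ((⁅v, y⁆ : ↥(T : Subgroup G)) : G) ∈ centralizer ((i : Subgroup G) : Set G) := by
  rw [mem_ct]
  refine and_congr_right fun _ => forall₂_congr fun y _ => ?_
  rw [mem_orbC]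
  simp only [commutatorElement_def, Subgroup.coe_mul, Subgroup.coe_inv]
  exact ⟨fun h i => h i i.2, fun h E hE => h ⟨E, hE⟩⟩

theorem mem_fix_of_ct [(orbC T ℬ).Normal] {Y : Subgroup ↥(T : Subgroup G)} {v : ↥(T : Subgroup G)}
    (hv : v ∈ ct V₀ C₀ Y) (i : ℬ) : D.Θ v (mem_ct.1 hv).1 i ∈ D.fixSet Y i := by
  intro σ hσ
  obtain ⟨y, hy, hyi, rfl⟩ := exists_of_img hσ
  exact (comm_mem_iff (D := D) _ hyi).1 ((mem_ct_iff.1 hv).2 y hy i)

/-- The two counts for a subgroup fixing every block. -/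
theorem fixed_counts [(orbC T ℬ).Normal] {Y : Subgroup ↥(T : Subgroup G)}
    (hN : ∀ y ∈ Y, ∀ i : ℬ, (y : G) ∈ normalizer ((i : Subgroup G) : Set G)) :
    (Nat.card Y ≤ Nat.card (Y ⊓ 𝒟 : Subgroup _) * ∏ i : ℬ, Nat.card (D.img Y i) ∧
      (Nat.card (Y ⊓ 𝒟 : Subgroup _) * ∏ i : ℬ, Nat.card (D.img Y i) ≤ Nat.card Y →
        ∀ σ : ∀ i : ℬ, Equiv.Perm (D.d i).Wt, (∀ i, σ i ∈ D.img Y i) →
          ∃ (y : ↥(T : Subgroup G)) (hy : y ∈ Y), ∀ i, (D.d i).π ⟨y, hN y hy i⟩ = σ i)) ∧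
      Nat.card (ct V₀ C₀ Y) ≤
        Nat.card (V₀ ⊓ C₀ : Subgroup _) * ∏ i : ℬ, Nat.card (D.fixSet Y i) := by
  obtain ⟨h1, h2⟩ := card_le_mul_pi Y (Y ⊓ 𝒟) (fun y i => (D.d i).π ⟨(y : ↥(T : Subgroup G)), hN y y.2 i⟩)
    (fun i => (D.img Y i : Set (Equiv.Perm (D.d i).Wt))) (fun y i => mem_img y.2 _)
    fun a b h => Subgroup.mem_inf.2 ⟨mul_mem a.2 (inv_mem b.2), mem_cent fun i => by
      rw [Subgroup.coe_mul, Subgroup.coe_inv]
      have e : (D.d i).π (⟨(a : ↥(T : Subgroup G)), hN a a.2 i⟩ *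
          ⟨(b : ↥(T : Subgroup G)), hN b b.2 i⟩⁻¹) = 1 := by
        rw [map_mul, map_inv, congrFun h i, mul_inv_cancel]
      exact ((D.d i).triv _).1 e⟩
  refine ⟨⟨h1, fun hge σ hσ => ?_⟩, ?_⟩
  · obtain ⟨y, hy⟩ := h2 hge σ hσ
    exact ⟨y, y.2, fun i => congrFun hy i⟩
  exact (card_le_mul_pi (ct V₀ C₀ Y) (V₀ ⊓ C₀) (fun v i => D.Θ v (mem_ct.1 v.2).1 i)
    (fun i => D.fixSet Y i) (fun v i => mem_fix_of_ct v.2 i)
    fun a b h => fib_mem _ _ fun i => congrFun h i).1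

/-- The images commute. -/
def CommImg (D : OData T ℬ) (Y : Subgroup ↥(T : Subgroup G)) : Prop :=
  ∀ i : ℬ, ∀ a ∈ D.img Y i, ∀ b ∈ D.img Y i, a * b = b * a

theorem commImg_of_comm {Y : Subgroup ↥(T : Subgroup G)}
    (hc : ∀ a ∈ Y, ∀ b ∈ Y, a * b = b * a) : D.CommImg Y := by
  intro i a ha b hb
  obtain ⟨x, hx, hxi, rfl⟩ := exists_of_img ha
  obtain ⟨y, hy, hyi, rfl⟩ := exists_of_img hb
  rw [← map_mul, ← map_mul]
  exact congrArg _ (Subtype.ext (congrArg Subtype.val (hc x hx y hy) :))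

theorem block_bound {Y : Subgroup ↥(T : Subgroup G)} (hc : D.CommImg Y) (i : ℬ) :
    Nat.card (D.img Y i) * Nat.card (D.fixSet Y i) ≤ Nat.card (D.d i).Wt :=
  (D.d i).bound _ (fun y hy => by
      obtain ⟨z, -, e⟩ := mem_subgroupOf.1 hy
      exact e ▸ z.2)
    fun a ha b hb => hc i _ ⟨a, ha, rfl⟩ _ ⟨b, hb, rfl⟩

theorem fixed_bound [(orbC T ℬ).Normal] {Y : Subgroup ↥(T : Subgroup G)}
    (hN : ∀ y ∈ Y, ∀ i : ℬ, (y : G) ∈ normalizer ((i : Subgroup G) : Set G)) (hc : D.CommImg Y) :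
    Nat.card Y * Nat.card (ct V₀ C₀ Y) ≤
      Nat.card V₀ * Nat.card (Y ⊓ 𝒟 : Subgroup _) := by
  obtain ⟨⟨h1, -⟩, h2⟩ := fixed_counts (D := D) hN
  calc _ ≤ (Nat.card (Y ⊓ 𝒟 : Subgroup _) * ∏ i : ℬ, Nat.card (D.img Y i)) *
        (Nat.card (V₀ ⊓ C₀ : Subgroup _) * ∏ i : ℬ, Nat.card (D.fixSet Y i)) := Nat.mul_le_mul h1 h2
    _ = Nat.card (Y ⊓ 𝒟 : Subgroup _) * (Nat.card (V₀ ⊓ C₀ : Subgroup _) *
        ∏ i : ℬ, Nat.card (D.img Y i) * Nat.card (D.fixSet Y i)) := by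
      rw [Finset.prod_mul_distrib]; ring
    _ ≤ Nat.card (Y ⊓ 𝒟 : Subgroup _) * (Nat.card (V₀ ⊓ C₀ : Subgroup _) *
        ∏ i : ℬ, Nat.card (D.d i).Wt) :=
      Nat.mul_le_mul_left _ (Nat.mul_le_mul_left _ (Finset.prod_le_prod' fun i _ => block_bound hc i))
    _ = _ := by rw [← card_V (D := D), mul_comm]

/-- A conjugate block as an element of the orbit. -/
def act (D : OData T ℬ) (t : ↥(T : Subgroup G)) (i : ℬ) : ℬ :=
  ⟨(i : Subgroup G).map cj[(t : G)], D.o.conj t t.2 i i.2⟩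

theorem act_eq_iff {t : ↥(T : Subgroup G)} {i : ℬ} :
    D.act t i = i ↔ (t : G) ∈ normalizer ((i : Subgroup G) : Set G) := by
  rw [mem_normalizer_iff_map_conj_eq]
  exact Subtype.ext_iff

theorem act_mul (s t : ↥(T : Subgroup G)) (i : ℬ) : D.act (s * t) i = D.act s (D.act t i) := by
  refine Subtype.ext ?_
  show Subgroup.map cj[((s * t : ↥(T : Subgroup G)) : G)] _ = Subgroup.map _ (Subgroup.map _ _)
  rw [Subgroup.map_map, Subgroup.coe_mul]
  congr 1
  ext x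
  simp [mul_assoc]

theorem act_one (i : ℬ) : D.act 1 i = i := act_eq_iff.2 (by
  rw [Subgroup.coe_one]; exact one_mem _)

theorem mem_act_WE (t : ↥(T : Subgroup G)) {i : ℬ} {w : G} (hw : w ∈ bWE 2 (i : Subgroup G)) :
    (t : G) * w * (t : G)⁻¹ ∈ bWE 2 ((D.act t i : ℬ) : Subgroup G) :=
  D.o.conj_WE _ _ hw

/-- An abelian normal subgroup has orbits of length at most two on the blocks. -/
theorem orbit_two {Y : Subgroup ↥(T : Subgroup G)} (hYn : Y.Normal)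
    (hYc : ∀ a ∈ Y, ∀ b ∈ Y, a * b = b * a) {i : ℬ} {y y' : ↥(T : Subgroup G)} (hy : y ∈ Y)
    (hy' : y' ∈ Y) (h : D.act y i ≠ i) (h' : D.act y' i ≠ i) : D.act y i = D.act y' i := by
  by_contra hne
  obtain ⟨w, hw, hwn⟩ := D.o.WE_not_central i.2
  set j := D.act y' i with hj
  have hk : D.act y' (D.act y i) ≠ j := by
    intro e
    have e2 := congrArg (D.act y'⁻¹) e
    rw [← act_mul, inv_mul_cancel, act_one, hj, ← act_mul, inv_mul_cancel, act_one] at e2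
    exact h e2
  have hwT : w ∈ (T : Subgroup G) := D.o.V_le_T (D.o.WE_le_V i.2 hw)
  set c : ↥(T : Subgroup G) := ⁅(⟨w, hwT⟩ : ↥(T : Subgroup G)), y⁆ with hcdef
  have hcY : c ∈ Y := commutator_mem_of_normal hYn hy
  have e : (y' : G) * (c : G) * (y' : G)⁻¹ = c := by
    rw [← Subgroup.coe_mul, ← Subgroup.coe_inv, ← Subgroup.coe_mul, hYc y' hy' c hcY,
      mul_inv_cancel_right]
  have hc : (c : G) = w * ((y : G) * w * (y : G)⁻¹)⁻¹ := by
    rw [hcdef]
    simp only [commutatorElement_def, Subgroup.coe_mul, Subgroup.coe_inv]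
    group
  have hyw := mem_act_WE (D := D) y hw
  have h1 : w ∈ centralizer ((j : Subgroup G) : Set G) :=
    D.o.WE_comm i.2 j.2 (fun e' => h' (Subtype.ext e'.symm)) hw
  have h2 : (y : G) * w * (y : G)⁻¹ ∈ centralizer ((j : Subgroup G) : Set G) :=
    D.o.WE_comm (D.act y i).2 j.2 (fun e' => hne (Subtype.ext e')) hyw
  have h3 : (y' : G) * ((y : G) * w * (y : G)⁻¹) * (y' : G)⁻¹ ∈
      centralizer ((j : Subgroup G) : Set G) :=
    D.o.WE_comm (D.act y' (D.act y i)).2 j.2 (fun e' => hk (Subtype.ext e'))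
      (mem_act_WE (D := D) y' hyw)
  have hcj : (c : G) ∈ centralizer ((j : Subgroup G) : Set G) := hc ▸ mul_mem h1 (inv_mem h2)
  rw [← e, hc, show (y' : G) * (w * ((y : G) * w * (y : G)⁻¹)⁻¹) * (y' : G)⁻¹ =
    ((y' : G) * w * (y' : G)⁻¹) * ((y' : G) * ((y : G) * w * (y : G)⁻¹) * (y' : G)⁻¹)⁻¹ by group,
    mul_mem_cancel_right (inv_mem h3)] at hcj
  have h4 := mem_centralizer_map hcj (y' : G)⁻¹
  rw [show (y' : G)⁻¹ * ((y' : G) * w * (y' : G)⁻¹) * (y' : G)⁻¹⁻¹ = w by group] at h4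
  have e3 : (j : Subgroup G).map cj[(y' : G)⁻¹] = i := by
    have := congrArg Subtype.val ((act_mul (D := D) y'⁻¹ y' i).symm.trans
      (by rw [inv_mul_cancel, act_one]))
    exact this
  rw [e3] at h4
  exact hwn h4

/-- A subgroup moving the blocks is strictly below the bound. -/
theorem moving_bound (D : OData T ℬ) [(orbC T ℬ).Normal] {Y : Subgroup ↥(T : Subgroup G)} (hYn : Y.Normal)
    (hYc : ∀ a ∈ Y, ∀ b ∈ Y, a * b = b * a)
    (hmov : ¬ ∀ y ∈ Y, ∀ i : ℬ, (y : G) ∈ normalizer ((i : Subgroup G) : Set G)) :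
    Nat.card Y * Nat.card (ct V₀ C₀ Y) < Nat.card V₀ * Nat.card (Y ⊓ 𝒟 : Subgroup _) := by
  classical
  push Not at hmov
  obtain ⟨y₀, hy₀, i₀, hi₀⟩ := hmov
  -- every block is moved
  have hall : ∀ i : ℬ, ∃ y ∈ Y, D.act y i ≠ i := by
    intro i
    obtain ⟨t, ht, e⟩ := D.o.trans i₀ i₀.2 i i.2
    set t' : ↥(T : Subgroup G) := ⟨t, ht⟩
    have e' : D.act t' i₀ = i := Subtype.ext e
    refine ⟨t' * y₀ * t'⁻¹, hYn.conj_mem y₀ hy₀ t', fun h => hi₀ ((act_eq_iff (D := D)).1 ?_)⟩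
    rw [← e', ← act_mul, inv_mul_cancel_right, act_mul] at h
    have h2 := congrArg (D.act t'⁻¹) h
    rwa [← act_mul, inv_mul_cancel, act_one, ← act_mul, inv_mul_cancel, act_one] at h2
  choose σy hσY hσne using hall
  -- representatives
  let P : Finset ℬ → Prop := fun R => ∀ j, ∃ r ∈ R, ∃ y ∈ Y, D.act y r = j
  obtain ⟨R, hR, hmin⟩ := Finset.exists_min_image (Finset.univ.filter P) Finset.card
    ⟨Finset.univ, Finset.mem_filter.2 ⟨Finset.mem_univ _, fun j =>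
      ⟨j, Finset.mem_univ _, 1, one_mem _, act_one j⟩⟩⟩
  rw [Finset.mem_filter] at hR
  have hsep : ∀ r ∈ R, ∀ r' ∈ R, ∀ y ∈ Y, D.act y r = r' → r = r' := by
    intro r hr r' hr' y hy e
    by_contra hne
    have : P (R.erase r') := fun j => by
      obtain ⟨s, hs, z, hz, hzs⟩ := hR.2 j
      by_cases hsr : s = r'
      · exact ⟨r, Finset.mem_erase.2 ⟨hne, hr⟩, z * y, mul_mem hz hy, by rw [act_mul, e, ← hsr, hzs]⟩
      · exact ⟨s, Finset.mem_erase.2 ⟨hsr, hs⟩, z, hz, hzs⟩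
    have h1 := hmin _ (Finset.mem_filter.2 ⟨Finset.mem_univ _, this⟩)
    exact absurd h1 (not_le.2 (Finset.card_erase_lt_of_mem hr'))
  have hcover : ∀ j, ∃ r ∈ R, j = r ∨ j = D.act (σy r) r := by
    intro j
    obtain ⟨r, hr, y, hy, e⟩ := hR.2 j
    refine ⟨r, hr, ?_⟩
    by_cases h : D.act y r = r
    · exact Or.inl (e ▸ h)
    · exact Or.inr (e ▸ orbit_two hYn hYc hy (hσY r) h (hσne r))
  -- `Y₀`: the elements fixing every block
  set Y₀ : Subgroup ↥(T : Subgroup G) :=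
    Y ⊓ ⨅ i : ℬ, (normalizer ((i : Subgroup G) : Set G)).subgroupOf (T : Subgroup G) with hY₀
  have hY₀N : ∀ y ∈ Y₀, ∀ i : ℬ, (y : G) ∈ normalizer ((i : Subgroup G) : Set G) :=
    fun y hy i => mem_subgroupOf.1 (Subgroup.mem_iInf.1 hy.2 i)
  have hcommAct : ∀ y ∈ Y, ∀ z ∈ Y, ∀ i, D.act y i = i → D.act y (D.act z i) = D.act z i := by
    intro y hy z hz i hfix
    rw [← act_mul, hYc y hy z hz, act_mul, hfix]
  -- first count
  have hc1 : Nat.card Y ≤ Nat.card Y₀ * ∏ _r : ↥R, 2 := by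
    refine (card_le_mul_pi Y Y₀ (fun y (r : ↥R) =>
      decide (D.act (y : ↥(T : Subgroup G)) r = r)) (fun _ => Set.univ)
      (fun _ _ => Set.mem_univ _) fun a b h => Subgroup.mem_inf.2 ⟨mul_mem a.2 (inv_mem b.2), ?_⟩).1.trans
      (le_of_eq ?_)
    · refine Subgroup.mem_iInf.2 fun i => mem_subgroupOf.2 ((act_eq_iff (D := D)).1 ?_)
      have key : ∀ r : ↥R, D.act ((a : ↥(T : Subgroup G)) * (b : ↥(T : Subgroup G))⁻¹) r = r := by
        intro r
        have h' := congrFun h r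
        simp only [decide_eq_decide] at h'
        have hab : D.act (a : ↥(T : Subgroup G)) r = D.act (b : ↥(T : Subgroup G)) r := by
          by_cases hr : D.act (a : ↥(T : Subgroup G)) (r : ℬ) = r
          · rw [hr, h'.1 hr]
          · exact orbit_two hYn hYc a.2 b.2 hr fun e => hr (h'.2 e)
        have e2 : D.act ((b : ↥(T : Subgroup G))⁻¹ * a) r = r := by
          rw [act_mul, hab, ← act_mul, inv_mul_cancel, act_one]
        rwa [hYc _ (inv_mem b.2) _ a.2] at e2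
      obtain ⟨r, hr, rfl | rfl⟩ := hcover i
      · exact key ⟨_, hr⟩
      · exact hcommAct _ (mul_mem a.2 (inv_mem b.2)) _ (hσY r) _ (key ⟨r, hr⟩)
    · simp [Nat.card_eq_fintype_card]
  -- second count
  have hc2 : Nat.card Y₀ ≤
      Nat.card (Y ⊓ 𝒟 : Subgroup _) * ∏ r : ↥R, Nat.card (D.img Y₀ r) := by
    refine (card_le_mul_pi Y₀ (Y ⊓ 𝒟)
      (fun y (r : ↥R) => (D.d (r : ℬ)).π ⟨(y : ↥(T : Subgroup G)), hY₀N y y.2 r⟩)
      (fun r => (D.img Y₀ r : Set (Equiv.Perm (D.d (r : ℬ)).Wt))) (fun y r => mem_img y.2 _)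
      fun a b h => Subgroup.mem_inf.2 ⟨mul_mem a.2.1 (inv_mem b.2.1), ?_⟩).1
    set x := (a : ↥(T : Subgroup G)) * (b : ↥(T : Subgroup G))⁻¹ with hx
    have hxY : x ∈ Y := mul_mem a.2.1 (inv_mem b.2.1)
    have key : ∀ r : ↥R, (x : G) ∈ centralizer (bWE 2 ((r : ℬ) : Subgroup G) : Set G) := fun r => by
      rw [hx, Subgroup.coe_mul, Subgroup.coe_inv]
      have e : (D.d (r : ℬ)).π (⟨(a : ↥(T : Subgroup G)), hY₀N a a.2 r⟩ *
          ⟨(b : ↥(T : Subgroup G)), hY₀N b b.2 r⟩⁻¹) = 1 := by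
        rw [map_mul, map_inv, congrFun h r, mul_inv_cancel]
      exact ((D.d (r : ℬ)).triv _).1 e
    refine mem_cent fun i => ?_
    obtain ⟨r, hr, rfl | rfl⟩ := hcover i
    · exact key ⟨_, hr⟩
    · have h1 := mem_centralizer_map (key ⟨r, hr⟩) (σy r : G)
      rw [Baumann.Sub.map_bWE] at h1
      rwa [← Subgroup.coe_mul, hYc _ (hσY r) _ hxY, Subgroup.coe_mul, mul_inv_cancel_right] at h1
  -- third count
  have hc3 : Nat.card (ct V₀ C₀ Y) ≤
      Nat.card (V₀ ⊓ C₀ : Subgroup _) * ∏ r : ↥R, Nat.card (D.fixSet Y₀ r) := by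
    refine (card_le_mul_pi (ct V₀ C₀ Y) (V₀ ⊓ C₀) (fun v (r : ↥R) => D.Θ v (mem_ct.1 v.2).1 r)
      (fun r => D.fixSet Y₀ r) (fun v r => ?_) fun a b h => ?_).1
    · intro τ hτ
      obtain ⟨y, hy, hyi, rfl⟩ := exists_of_img hτ
      exact (comm_mem_iff (D := D) _ hyi).1 ((mem_ct_iff.1 v.2).2 y hy.1 r)
    refine fib_mem (D := D) (mem_ct.1 a.2).1 (mem_ct.1 b.2).1 fun i => ?_
    obtain ⟨r, hr, rfl | rfl⟩ := hcover i
    · exact congrFun h ⟨_, hr⟩
    refine theta_eq.2 ?_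
    set v := (a : ↥(T : Subgroup G)) * (b : ↥(T : Subgroup G))⁻¹ with hv
    have hvct : v ∈ ct V₀ C₀ Y := mul_mem a.2 (inv_mem b.2)
    have hvr : (v : G) ∈ centralizer ((r : Subgroup G) : Set G) := by
      rw [hv, Subgroup.coe_mul, Subgroup.coe_inv]
      exact theta_eq.1 (congrFun h ⟨r, hr⟩)
    have h1 := mem_centralizer_map hvr (σy r : G)
    have h2 := (mem_ct_iff.1 hvct).2 _ (hσY r) (D.act (σy r) r)
    rw [← Subgroup.coe_inv, ← Subgroup.coe_mul, ← hv,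
      show (v : G) = ⁅(v : G), (σy r : G)⁆ * ((σy r : G) * v * (σy r : G)⁻¹) by
        rw [commutatorElement_def]; group]
    exact mul_mem h2 h1
  have hcI : D.CommImg Y₀ := commImg_of_comm fun a ha b hb => hYc a ha.1 b hb.1
  -- the sections in pairs
  have hpair : ∏ r : ↥R, Nat.card (D.d (r : ℬ)).Wt * Nat.card (D.d (r : ℬ)).Wt ≤
      ∏ i : ℬ, Nat.card (D.d i).Wt := by
    let g : ↥R ⊕ ↥R → ℬ := Sum.elim (fun r => r) (fun r => D.act (σy r) r)
    have hg : Function.Injective g := by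
      rintro (r | r) (r' | r') e
      · exact congrArg Sum.inl (Subtype.ext e)
      · exfalso
        have h1 := hsep r' r'.2 r r.2 _ (hσY r') e.symm
        exact hσne r' (Eq.trans (b := (r : ℬ)) e.symm h1.symm)
      · exfalso
        have h1 := hsep r r.2 r' r'.2 _ (hσY r) e
        exact hσne r (e.trans h1.symm)
      · refine congrArg Sum.inr (Subtype.ext (hsep r r.2 r' r'.2 ((σy r')⁻¹ * σy r)
          (mul_mem (inv_mem (hσY r')) (hσY r)) ?_))
        rw [act_mul]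
        exact (congrArg (D.act (σy r')⁻¹) e).trans
          (by rw [show g (Sum.inr r') = D.act (σy r') r' from rfl, ← act_mul, inv_mul_cancel, act_one])
    have hgs : Function.Surjective g := fun j => by
      obtain ⟨r, hr, rfl | rfl⟩ := hcover j
      · exact ⟨Sum.inl ⟨_, hr⟩, rfl⟩
      · exact ⟨Sum.inr ⟨r, hr⟩, rfl⟩
    rw [← Fintype.prod_bijective g ⟨hg, hgs⟩ (fun x => Nat.card (D.d (g x)).Wt) _ fun _ => rfl,
      Fintype.prod_sum_type, ← Finset.prod_mul_distrib]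
    refine Finset.prod_le_prod' fun r _ => Nat.mul_le_mul_left _ ?_
    exact card_Wt_conj (σy r).2 rfl
  haveI : Nonempty ↥R := by
    obtain ⟨E, hE⟩ := D.o.ne
    obtain ⟨r, hr, -⟩ := hcover ⟨E, hE⟩
    exact ⟨⟨r, hr⟩⟩
  calc Nat.card Y * Nat.card (ct V₀ C₀ Y)
      ≤ (Nat.card (Y ⊓ 𝒟 : Subgroup _) * (∏ r : ↥R, Nat.card (D.img Y₀ r)) * ∏ _r : ↥R, 2) *
        (Nat.card (V₀ ⊓ C₀ : Subgroup _) * ∏ r : ↥R, Nat.card (D.fixSet Y₀ r)) :=
        Nat.mul_le_mul (hc1.trans (Nat.mul_le_mul_right _ hc2)) hc3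
    _ = Nat.card (Y ⊓ 𝒟 : Subgroup _) * (Nat.card (V₀ ⊓ C₀ : Subgroup _) *
        ∏ r : ↥R, Nat.card (D.img Y₀ r) * Nat.card (D.fixSet Y₀ r) * 2) := by
      rw [Finset.prod_mul_distrib, Finset.prod_mul_distrib]; ring
    _ < Nat.card (Y ⊓ 𝒟 : Subgroup _) * (Nat.card (V₀ ⊓ C₀ : Subgroup _) *
        ∏ r : ↥R, Nat.card (D.d (r : ℬ)).Wt * Nat.card (D.d (r : ℬ)).Wt) := by
      refine Nat.mul_lt_mul_of_pos_left (Nat.mul_lt_mul_of_pos_left ?_ Nat.card_pos) Nat.card_pos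
      refine lt_of_le_of_lt (Finset.prod_le_prod' fun r _ =>
        Nat.mul_le_mul_right 2 (block_bound hcI (r : ℬ))) ?_
      refine Finset.prod_lt_prod_of_nonempty (fun r _ => ?_) (fun r _ => ?_) Finset.univ_nonempty
      · have := (D.d (r : ℬ)).two_lt
        positivity
      · have := (D.d (r : ℬ)).two_lt
        exact Nat.mul_lt_mul_of_pos_left this (by omega)
    _ ≤ _ := by
      rw [card_V (D := D), mul_comm _ (Nat.card (Y ⊓ 𝒟 : Subgroup _))]
      exact Nat.mul_le_mul_left _ (Nat.mul_le_mul_left _ hpair)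

/-- What the equality case gives. -/
theorem exact_facts [(orbC T ℬ).Normal] {Y : Subgroup ↥(T : Subgroup G)} (hY : Exact V₀ C₀ Y) :
    ∃ hN : ∀ y ∈ Y, ∀ i : ℬ, (y : G) ∈ normalizer ((i : Subgroup G) : Set G),
      (∀ (v : ↥(T : Subgroup G)) (hv : v ∈ V₀), v ∈ ct V₀ C₀ Y ↔ ∀ i, D.Θ v hv i ∈ D.L i) ∧
      Nat.card (V₀ ⊓ C₀ : Subgroup _) * ∏ i : ℬ, Nat.card (D.L i) ≤ Nat.card (ct V₀ C₀ Y) ∧
      (∀ i, D.L i ≠ Set.univ) ∧
      (∀ i, (D.d i).θ ⟨1, one_mem _⟩ ∈ D.L i) ∧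
      (∀ i, ∀ w ∈ D.L i, ∃ (a : G) (b : ↥(orbV ℬ)) (x : ↥(T : Subgroup G)), x ∈ Y ∧
        a ∈ bWE 2 (i : Subgroup G) ∧ (b : G) = ⁅a, (x : G)⁆ ∧ (D.d i).θ b = w) ∧
      ∃ (y : ↥(T : Subgroup G)) (hy : y ∈ Y), ∀ i w, (D.d i).π ⟨y, hN y hy i⟩ w = w → w ∈ D.L i := by
  have hN : ∀ y ∈ Y, ∀ i : ℬ, (y : G) ∈ normalizer ((i : Subgroup G) : Set G) := by
    by_contra hmov
    exact absurd hY.ge (not_le.2 (moving_bound D hY.normal hY.comm hmov))
  refine ⟨hN, ?_⟩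
  have hc := commImg_of_comm (D := D) hY.comm
  obtain ⟨⟨h1, hsurj⟩, h2⟩ := fixed_counts (D := D) hN
  set a := fun i : ℬ => Nat.card (D.img Y i) with ha
  set f := fun i : ℬ => Nat.card (D.fixSet Y i) with hf
  set g := fun i : ℬ => Nat.card (D.d i).Wt with hg
  set z := Nat.card (V₀ ⊓ C₀ : Subgroup ↥(T : Subgroup G))
  set k := Nat.card (Y ⊓ 𝒟 : Subgroup ↥(T : Subgroup G))
  have hone : ∀ i, (D.d i).θ ⟨1, one_mem _⟩ ∈ D.fixSet Y i := fun i => by
    rintro _ ⟨x, -, rfl⟩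
    exact (D.d i).spec x ⟨1, one_mem _⟩ ⟨1, one_mem _⟩ (by simp)
  have hf0 : ∀ i, 0 < f i := fun i => by
    haveI : Nonempty (D.fixSet Y i) := ⟨⟨_, hone i⟩⟩
    exact Nat.card_pos
  have hV := card_V (D := D)
  have hge : k * (z * ∏ i, g i) ≤ Nat.card Y * Nat.card (ct V₀ C₀ Y) := by
    have := hY.ge
    rw [hV, mul_comm] at this
    exact this
  have hprod : ∏ i, g i ≤ ∏ i, a i * f i := by
    refine Nat.le_of_mul_le_mul_left (c := k * z) ?_ (Nat.mul_pos Nat.card_pos Nat.card_pos)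
    calc k * z * ∏ i, g i = k * (z * ∏ i, g i) := mul_assoc ..
      _ ≤ _ := hge
      _ ≤ (k * ∏ i, a i) * (z * ∏ i, f i) := Nat.mul_le_mul h1 h2
      _ = k * z * ∏ i, a i * f i := by rw [Finset.prod_mul_distrib]; ring
  have heq : ∀ i, a i * f i = g i :=
    eq_of_prod_le (fun i => Nat.mul_pos Nat.card_pos (hf0 i)) (fun i => block_bound hc i) hprod
  have hYeq : k * ∏ i, a i ≤ Nat.card Y := by
    refine Nat.le_of_mul_le_mul_right (c := z * ∏ i, f i) ?_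
      (Nat.mul_pos Nat.card_pos (Finset.prod_pos fun i _ => hf0 i))
    calc (k * ∏ i, a i) * (z * ∏ i, f i) = k * (z * ∏ i, a i * f i) := by
          rw [Finset.prod_mul_distrib]; ring
      _ = k * (z * ∏ i, g i) := by rw [Finset.prod_congr rfl fun i _ => heq i]
      _ ≤ _ := hge
      _ ≤ _ := Nat.mul_le_mul_left _ h2
  have hct : z * ∏ i, f i ≤ Nat.card (ct V₀ C₀ Y) := by
    refine Nat.le_of_mul_le_mul_left (c := k * ∏ i, a i) ?_
      (Nat.mul_pos Nat.card_pos (Finset.prod_pos fun i _ => Nat.card_pos))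
    calc (k * ∏ i, a i) * (z * ∏ i, f i) = k * (z * ∏ i, a i * f i) := by
          rw [Finset.prod_mul_distrib]; ring
      _ = k * (z * ∏ i, g i) := by rw [Finset.prod_congr rfl fun i _ => heq i]
      _ ≤ _ := hge
      _ ≤ _ := Nat.mul_le_mul_right _ h1
  -- every block is moved
  have hne : ∀ i : ℬ, ∃ σ ∈ D.img Y i, σ ≠ 1 := by
    intro i
    by_contra hno
    push Not at hno
    refine hY.moves fun y hy => mem_cent fun j => ?_
    obtain ⟨t, ht, e⟩ := D.o.trans i i.2 j j.2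
    set t' : ↥(T : Subgroup G) := ⟨t, ht⟩
    have hy' : t'⁻¹ * y * t'⁻¹⁻¹ ∈ Y := hY.normal.conj_mem y hy t'⁻¹
    have h3 := ((D.d i).triv _).1 (hno _ (mem_img (D := D) hy' (hN _ hy' i)))
    have h4 := mem_centralizer_map h3 t
    rw [Baumann.Sub.map_bWE, e] at h4
    rw [show t * ((t'⁻¹ * y * t'⁻¹⁻¹ : ↥(T : Subgroup G)) : G) * t⁻¹ = (y : G) by
      rw [Subgroup.coe_mul, Subgroup.coe_mul, Subgroup.coe_inv, Subgroup.coe_inv]
      show t * (t⁻¹ * (y : G) * t⁻¹⁻¹) * t⁻¹ = y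
      group] at h4
    exact h4
  have hspec : ∀ i, D.fixSet Y i = D.L i ∧
      ∃ (x : ↥(T : Subgroup G)) (hx : x ∈ Y), (∀ w, (D.d i).π ⟨x, hN x hx i⟩ w = w → w ∈ D.L i) ∧
        ∀ w ∈ D.L i, ∃ (c : G) (b : ↥(orbV ℬ)), c ∈ bWE 2 (i : Subgroup G) ∧
          (b : G) = ⁅c, (x : G)⁆ ∧ (D.d i).θ b = w := by
    intro i
    obtain ⟨h3, ⟨x, hxn⟩, hx, hx1, hx2⟩ := Classical.choose_spec (D.d i).exact'
      ((Y.map (T : Subgroup G).subtype).subgroupOf (normalizer ((i : Subgroup G) : Set G)))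
      (fun y hy => by
        obtain ⟨w, -, e⟩ := mem_subgroupOf.1 hy
        exact e ▸ w.2)
      (fun b hb b' hb' => hc i _ ⟨b, hb, rfl⟩ _ ⟨b', hb', rfl⟩)
      (fun t ht y hy => by
        obtain ⟨w, hw, e⟩ := mem_subgroupOf.1 hy
        refine mem_subgroupOf.2 ⟨⟨t, ht⟩ * w * ⟨t, ht⟩⁻¹, hY.normal.conj_mem w hw _, ?_⟩
        simp only [Subgroup.coe_subtype, Subgroup.coe_mul, Subgroup.coe_inv] at e ⊢
        rw [e])
      (by
        obtain ⟨σ, ⟨y, hy, hyσ⟩, hσ⟩ := hne i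
        exact ⟨y, hy, hyσ ▸ hσ⟩)
      (heq i).ge
    obtain ⟨x', hx', rfl⟩ := mem_subgroupOf.1 hx
    exact ⟨h3, x', hx', hx1, hx2⟩
  refine ⟨fun v hv => ⟨fun h i => (hspec i).1 ▸ mem_fix_of_ct h i, fun h => ?_⟩, ?_, ?_, ?_, ?_, ?_⟩
  · refine mem_ct_iff.2 ⟨hv, fun y hy i => (comm_mem_iff (D := D) hv (hN y hy i)).2 ?_⟩
    exact ((hspec i).1.ge (h i)) _ (mem_img hy _)
  · rw [Finset.prod_congr rfl fun i _ => by rw [← (hspec i).1]]
    exact hct
  · intro i e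
    obtain ⟨σ, hσ, hσ1⟩ := hne i
    exact hσ1 (Equiv.ext fun w => ((hspec i).1.trans e).ge (Set.mem_univ w) σ hσ)
  · exact fun i => (hspec i).1.le (hone i)
  · intro i w hw
    obtain ⟨-, x, hx, -, h4⟩ := hspec i
    obtain ⟨c, b, hcW, hb, hbw⟩ := h4 w hw
    exact ⟨c, b, x, hx, hcW, hb, hbw⟩
  · choose x hx hx1 _ using fun i => (hspec i).2
    obtain ⟨y, hy, hye⟩ := hsurj hYeq (fun i => (D.d i).π ⟨x i, hN _ (hx i) i⟩)
      fun i => mem_img (hx i) _
    exact ⟨y, hy, fun i w hw => hx1 i w (by rw [← hye i]; exact hw)⟩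

/-- **The blocks give the hypotheses of the twin argument.** -/
theorem pack (D : OData T ℬ) [(orbC T ℬ).Normal] : Pack V₀ C₀ where
  vab v hv w hw := Subtype.ext (by
    rw [Subgroup.coe_mul, Subgroup.coe_mul]
    exact D.o.V_comm (mem_orbVT.1 hv) (mem_orbVT.1 hw))
  vsq v hv := Subtype.ext (by
    rw [Subgroup.coe_mul, Subgroup.coe_one]
    exact D.o.V_sq (mem_orbVT.1 hv))
  dd d hd d' hd' := mem_orbC.2 fun E hE => by
    have key : ∀ x ∈ 𝒟, ((x : ↥(T : Subgroup G)) : G) ∈ normalizer (E : Set G) ∧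
        ((x : ↥(T : Subgroup G)) : G) ∈ centralizer (bWE 2 E : Set G) := by
      intro x hx
      have hc : ∀ v ∈ orbV ℬ, v * (x : G) = x * v := fun v hv => congrArg Subtype.val
        (mem_centralizer_iff.1 hx ⟨v, D.o.V_le_T hv⟩ (mem_orbVT.2 hv))
      exact ⟨D.o.cent_normalizes x.2 hc hE,
        mem_centralizer_iff.2 fun w hw => hc w (D.o.WE_le_V hE hw)⟩
    simp only [commutatorElement_def, Subgroup.coe_mul, Subgroup.coe_inv]
    rw [← commutatorElement_def]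
    exact Degree.commutator_mem_centralizer D.o.hG (D.o.sblock hE) (key d hd).1 (key d hd).2
      (key d' hd').1 (key d' hd').2
  dsq d hd := mem_orbC.2 fun E hE => by
    have hc : ∀ v ∈ orbV ℬ, v * (d : G) = d * v := fun v hv => congrArg Subtype.val
      (mem_centralizer_iff.1 hd ⟨v, D.o.V_le_T hv⟩ (mem_orbVT.2 hv))
    rw [Subgroup.coe_mul]
    refine mem_centralizer_iff.2 fun e he => ?_
    have h1 : ⁅(d : G), e⁆ ∈ bWE 2 E := Degree.commutator_centralizes D.o.hG (D.o.sblock hE)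
      (D.o.cent_normalizes d.2 hc hE)
      (mem_centralizer_iff.2 fun w hw => hc w (D.o.WE_le_V hE hw)) he
    set w := ⁅(d : G), e⁆ with hw
    have hde : (d : G) * e * (d : G)⁻¹ = w * e := by rw [hw, commutatorElement_def]; group
    have hdw : (d : G) * w * (d : G)⁻¹ = w := by
      rw [← hc w (D.o.WE_le_V hE h1)]; group
    have key : (d : G) * d * e * ((d : G) * d)⁻¹ = e := by
      calc (d : G) * d * e * ((d : G) * d)⁻¹ = (d : G) * ((d : G) * e * (d : G)⁻¹) * (d : G)⁻¹ := by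
            group
        _ = ((d : G) * w * (d : G)⁻¹) * ((d : G) * e * (d : G)⁻¹) := by
            conv_lhs => rw [hde]
            group
        _ = (w * w) * e := by rw [hdw, hde, mul_assoc]
        _ = e := by rw [D.o.V_sq (D.o.WE_le_V hE h1), one_mul]
    exact (mul_inv_eq_iff_eq_mul.1 key).symm
  bound Y hYn hYc := by
    by_cases hN : ∀ y ∈ Y, ∀ i : ℬ, (y : G) ∈ normalizer ((i : Subgroup G) : Set G)
    · exact fixed_bound (D := D) hN (commImg_of_comm hYc)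
    · exact (moving_bound D hYn hYc hN).le
  unique Y Y' hY hY' := by
    obtain ⟨-, h, -⟩ := exact_facts (D := D) hY
    obtain ⟨-, h', -⟩ := exact_facts (D := D) hY'
    ext v
    by_cases hv : v ∈ V₀
    · rw [h v hv, h' v hv]
    · exact ⟨fun hm => absurd (mem_ct.1 hm).1 hv, fun hm => absurd (mem_ct.1 hm).1 hv⟩
  span Y hY v hv := by
    classical
    obtain ⟨hN, h, -, -, -, hcomm, -⟩ := exact_facts (D := D) hY
    have hv0 := (mem_ct.1 hv).1
    suffices key : ∀ s : Finset ℬ, ∃ (z : ↥(T : Subgroup G)) (hz : z ∈ V₀), z ∈ Y ∧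
        ∀ i, (i ∈ s → D.Θ z hz i = D.Θ v hv0 i) ∧
          (i ∉ s → (z : G) ∈ centralizer ((i : Subgroup G) : Set G)) by
      obtain ⟨z, hz, hzY, hh⟩ := key Finset.univ
      have h1 := fib_mem hv0 hz fun i => ((hh i).1 (Finset.mem_univ i)).symm
      have e : v = z * (v * z⁻¹) := Subtype.ext (by
        rw [Subgroup.coe_mul, Subgroup.coe_mul, Subgroup.coe_inv,
          D.o.V_comm (mem_orbVT.1 hz) (mul_mem (mem_orbVT.1 hv0) (inv_mem (mem_orbVT.1 hz))),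
          inv_mul_cancel_right])
      rw [e]
      exact mul_mem_sup ⟨hz, hzY⟩ h1
    intro s
    induction s using Finset.induction with
    | empty => exact ⟨1, one_mem _, one_mem _, fun i => ⟨fun hi => absurd hi (Finset.notMem_empty i),
        fun _ => one_mem _⟩⟩
    | @insert j s hj ih =>
      obtain ⟨z, hz, hzY, hh⟩ := ih
      obtain ⟨c, b, x, hx, hc, hb, hbv⟩ := hcomm j _ ((h v hv0).1 hv j)
      set b' : ↥(T : Subgroup G) := ⟨b, D.o.V_le_T b.2⟩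
      have hb' : b' ∈ V₀ := mem_orbVT.2 b.2
      have hbW : (b : G) ∈ bWE 2 (j : Subgroup G) := by
        rw [hb, commutatorElement_def, mul_assoc, mul_assoc, ← mul_assoc (x : G)]
        exact mul_mem hc ((mem_normalizer_iff.1
          (normalizer_le_normalizer_WE (j : Subgroup G) (hN x hx j)) _).1 (inv_mem hc))
      have hbY : b' ∈ Y := by
        have e : b' = ⁅(⟨c, D.o.V_le_T (D.o.WE_le_V j.2 hc)⟩ : ↥(T : Subgroup G)), x⁆ :=
          Subtype.ext (by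
            simp only [commutatorElement_def, Subgroup.coe_mul, Subgroup.coe_inv]
            exact hb.trans (commutatorElement_def ..))
        rw [e]
        exact commutator_mem_of_normal hY.normal hx
      refine ⟨z * b', mul_mem hz hb', mul_mem hzY hbY, fun i => ⟨fun hi => ?_, fun hi => ?_⟩⟩
      · rcases Finset.mem_insert.1 hi with rfl | his
        · rw [← hbv]
          refine ((D.d i).θ_eq _ _).2 ?_
          show ((z * b' : ↥(T : Subgroup G)) : G) * (b : G)⁻¹ ∈ _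
          rw [Subgroup.coe_mul, mul_inv_cancel_right]
          exact (hh i).2 hj
        · have hne : (j : Subgroup G) ≠ i := fun e => hj (Subtype.ext e ▸ his)
          rw [← (hh i).1 his, theta_eq, Subgroup.coe_mul,
            D.o.V_comm (mem_orbVT.1 hz) b.2, mul_inv_cancel_right]
          exact D.o.WE_comm j.2 i.2 hne hbW
      · rw [Finset.mem_insert, not_or] at hi
        rw [Subgroup.coe_mul]
        exact mul_mem ((hh i).2 hi.2)
          (D.o.WE_comm j.2 i.2 (fun e => hi.1 (Subtype.ext e.symm)) hbW)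
  good Y hY := by
    obtain ⟨hN, h, -, -, -, -, y, hy, hyL⟩ := exact_facts (D := D) hY
    refine ⟨y, hy, fun v hv hvy => (h v hv).2 fun i => hyL i _ ?_⟩
    refine (comm_mem_iff (D := D) hv (hN y hy i)).1 ?_
    have := mem_orbC.1 hvy i i.2
    simpa only [commutatorElement_def, Subgroup.coe_mul, Subgroup.coe_inv] using this
  chainBound Y P hY hPn hPV hPL := by
    classical
    obtain ⟨hN, h, hct, hLne, hL1, -, -⟩ := exact_facts (D := D) hY
    -- `P` fixes every block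
    have hPN : ∀ p ∈ P, ∀ i : ℬ, (p : G) ∈ normalizer ((i : Subgroup G) : Set G) := by
      intro p hp i
      by_contra hmv
      obtain ⟨w, hw⟩ := (Set.ne_univ_iff_exists_notMem _).1 (hLne i)
      obtain ⟨u, huW, hu⟩ := (D.d i).θ_surj w
      set u' : ↥(T : Subgroup G) := ⟨u, D.o.V_le_T u.2⟩
      have hu' : u' ∈ V₀ := mem_orbVT.2 u.2
      have hct' := hPV u' hu' p hp
      have hL' := (h _ (mem_ct.1 hct').1).1 hct' i
      refine hw ?_
      rw [← hu]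
      have e : D.Θ ⁅u', p⁆ (mem_ct.1 hct').1 i = D.Θ u' hu' i := by
        rw [theta_eq]
        simp only [commutatorElement_def, Subgroup.coe_mul, Subgroup.coe_inv]
        have hpu := mem_act_WE (D := D) p huW
        have hcz : (p : G) * u * (p : G)⁻¹ ∈ centralizer ((i : Subgroup G) : Set G) :=
          D.o.WE_comm (D.act p i).2 i.2 (fun e => hmv ((act_eq_iff (D := D)).1 (Subtype.ext e))) hpu
        have hpV : (p : G) * u * (p : G)⁻¹ ∈ orbV ℬ := D.o.V_conj p.2 u.2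
        rw [show (u' : G) = (u : G) from rfl, show (u : G) * p * (u : G)⁻¹ * (p : G)⁻¹ * (u : G)⁻¹ =
          (u : G) * ((p : G) * u * (p : G)⁻¹)⁻¹ * (u : G)⁻¹ by group,
          D.o.V_comm u.2 (inv_mem hpV), mul_inv_cancel_right]
        exact inv_mem hcz
      rw [e] at hL'
      exact hL'
    -- the images commute
    have hcI : D.CommImg P := by
      intro i σ hσ τ hτ
      obtain ⟨p, hp, hpi, rfl⟩ := exists_of_img hσ
      obtain ⟨q, hq, hqi, rfl⟩ := exists_of_img hτ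
      refine Equiv.ext fun w => ?_
      obtain ⟨⟨u, huV⟩, -, rfl⟩ := (D.d i).θ_surj w
      have step : ∀ {r s : ↥(T : Subgroup G)} (hr : r ∈ P) (hs : s ∈ P)
          (hri : (r : G) ∈ normalizer ((i : Subgroup G) : Set G))
          (hsi : (s : G) ∈ normalizer ((i : Subgroup G) : Set G)),
          ((D.d i).π ⟨r, hri⟩ * (D.d i).π ⟨s, hsi⟩) ((D.d i).θ ⟨u, huV⟩) =
            (D.d i).θ ⟨u * ((u⁻¹ * ((r : G) * u * (r : G)⁻¹)) * (u⁻¹ * ((s : G) * u * (s : G)⁻¹))),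
              mul_mem huV (mul_mem (mul_mem (inv_mem huV) (D.o.V_conj r.2 huV))
                (mul_mem (inv_mem huV) (D.o.V_conj s.2 huV)))⟩ := by
        intro r s hr hs hri hsi
        have hsV := D.o.V_conj s.2 huV
        have hrV := D.o.V_conj r.2 hsV
        rw [Equiv.Perm.mul_apply, (D.d i).spec ⟨s, hsi⟩ ⟨u, huV⟩ ⟨_, hsV⟩ rfl,
          (D.d i).spec ⟨r, hri⟩ ⟨_, hsV⟩ ⟨_, hrV⟩ rfl, (D.d i).θ_eq]
        set l := u⁻¹ * ((s : G) * u * (s : G)⁻¹) with hl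
        have hlV : l ∈ orbV ℬ := mul_mem (inv_mem huV) hsV
        set u' : ↥(T : Subgroup G) := ⟨u, D.o.V_le_T huV⟩
        have hlct : (⟨l, D.o.V_le_T hlV⟩ : ↥(T : Subgroup G)) ∈ ct V₀ C₀ Y := by
          have h5 := inv_mem (hPV u' (mem_orbVT.2 huV) s hs)
          convert h5 using 1
          refine Subtype.ext ?_
          simp only [commutatorElement_def, Subgroup.coe_mul, Subgroup.coe_inv]
          show l = (u * (s : G) * u⁻¹ * (s : G)⁻¹)⁻¹
          rw [hl, D.o.V_comm (inv_mem huV) hsV]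
          group
        have h6 := mem_orbC.1 (hPL _ hlct r hr) i i.2
        simp only [commutatorElement_def, Subgroup.coe_mul, Subgroup.coe_inv] at h6
        have hrl : (r : G) * l * (r : G)⁻¹ ∈ orbV ℬ := D.o.V_conj r.2 hlV
        show (r : G) * ((s : G) * u * (s : G)⁻¹) * (r : G)⁻¹ *
          (u * ((u⁻¹ * ((r : G) * u * (r : G)⁻¹)) * l))⁻¹ ∈ _
        rw [show (r : G) * ((s : G) * u * (s : G)⁻¹) * (r : G)⁻¹ *
            (u * ((u⁻¹ * ((r : G) * u * (r : G)⁻¹)) * l))⁻¹ =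
          ((r : G) * u * (r : G)⁻¹) * ((r : G) * l * (r : G)⁻¹ * l⁻¹) *
            ((r : G) * u * (r : G)⁻¹)⁻¹ by rw [hl]; group,
          D.o.V_comm (D.o.V_conj r.2 huV) (mul_mem hrl (inv_mem hlV)), mul_inv_cancel_right]
        have h7 := inv_mem h6
        convert h7 using 1
        group
      rw [step hp hq hpi hqi, step hq hp hqi hpi]
      congr 2
      rw [D.o.V_comm (mul_mem (inv_mem huV) (D.o.V_conj p.2 huV))
        (mul_mem (inv_mem huV) (D.o.V_conj q.2 huV))]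
    -- `P` fixes the common fixed sets
    have hLfix : ∀ i, D.L i ⊆ D.fixSet P i := by
      intro i w hw σ hσ
      obtain ⟨p, hp, hpi, rfl⟩ := exists_of_img hσ
      obtain ⟨u, huW, hu⟩ := (D.d i).θ_surj w
      set u' : ↥(T : Subgroup G) := ⟨u, D.o.V_le_T u.2⟩
      have hu' : u' ∈ V₀ := mem_orbVT.2 u.2
      have hmem : u' ∈ ct V₀ C₀ Y := (h u' hu').2 fun j => by
        by_cases e : j = i
        · subst e
          show (D.d j).θ u ∈ _
          rw [hu]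
          exact hw
        · have e2 : D.Θ u' hu' j = (D.d j).θ ⟨1, one_mem _⟩ := ((D.d j).θ_eq _ _).2 (by
            show (u : G) * 1⁻¹ ∈ _
            rw [inv_one, mul_one]
            exact D.o.WE_comm i.2 j.2 (fun e' => e (Subtype.ext e'.symm)) huW)
          rw [e2]
          exact hL1 j
      rw [← hu]
      refine (comm_mem_iff (D := D) hu' hpi).1 ?_
      have := mem_orbC.1 (hPL u' hmem p hp) i i.2
      simpa only [commutatorElement_def, Subgroup.coe_mul, Subgroup.coe_inv] using this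
    obtain ⟨⟨h1, -⟩, -⟩ := fixed_counts (D := D) hPN
    have h2 : Nat.card (ct V₀ C₀ Y) ≤
        Nat.card (V₀ ⊓ C₀ : Subgroup _) * ∏ i : ℬ, Nat.card (D.L i) :=
      (card_le_mul_pi (ct V₀ C₀ Y) (V₀ ⊓ C₀) (fun v i => D.Θ v (mem_ct.1 v.2).1 i)
        (fun i => D.L i) (fun v i => (h _ (mem_ct.1 v.2).1).1 v.2 i)
        fun a b hab => fib_mem _ _ fun i => congrFun hab i).1
    calc _ ≤ (Nat.card (P ⊓ 𝒟 : Subgroup _) * ∏ i : ℬ, Nat.card (D.img P i)) *
          (Nat.card (V₀ ⊓ C₀ : Subgroup _) * ∏ i : ℬ, Nat.card (D.L i)) := Nat.mul_le_mul h1 h2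
      _ = Nat.card (P ⊓ 𝒟 : Subgroup _) * (Nat.card (V₀ ⊓ C₀ : Subgroup _) *
          ∏ i : ℬ, Nat.card (D.img P i) * Nat.card (D.L i)) := by rw [Finset.prod_mul_distrib]; ring
      _ ≤ Nat.card (P ⊓ 𝒟 : Subgroup _) * (Nat.card (V₀ ⊓ C₀ : Subgroup _) *
          ∏ i : ℬ, Nat.card (D.d i).Wt) := by
        refine Nat.mul_le_mul_left _ (Nat.mul_le_mul_left _ (Finset.prod_le_prod' fun i _ => ?_))
        exact (Nat.mul_le_mul_left _ (Nat.card_mono (Set.toFinite _) (hLfix i))).trans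
          (block_bound hcI i)
      _ = _ := by rw [← card_V (D := D), mul_comm]

end OData

theorem Orbit.exists_odata (o : Orbit T ℬ) : Nonempty (OData T ℬ) := by
  exact ⟨⟨o, fun i => Classical.choice (o.bdata i.2)⟩⟩

end Cfsg.Agent.PushOdd
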