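import Cfsg.Agent.PushOdd.Family
import Cfsg.Agent.LocalCGT.NearComp
import Cfsg.Agent.S2980

/-!
# Odd automorphisms of a Sylow 2-subgroup in a group with a unique maximal overgroup

If no nontrivial characteristic subgroup of `T` is normal, the images of the product of the modules
of an orbit of blocks generate a normal subgroup.
-/

set_option autoImplicit false
set_option linter.unusedSectionVars false
set_option linter.style.haveILetI false

namespace Cfsg.Agent.PushOdd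

open Subgroup LocalCGT
open Baumann.Sub (SBlock bW bWE bZ bQ gV)
open scoped commutatorElement

universe u

variable {G : Type u} [Group G] [Finite G]

local notation "cj[" g "]" => MulEquiv.toMonoidHom (MulAut.conj g)

/-- The join of the images of `V` under `A`. -/
def joinImages {S : Type*} [Group S] (A : Subgroup (MulAut S)) (V : Subgroup S) : Subgroup S :=
  ⨆ a : A, V.map (MulEquiv.toMonoidHom (a : MulAut S))

theorem joinImages_normal {S : Type*} [Group S] (A : Subgroup (MulAut S)) {V : Subgroup S}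
    (hV : V.Normal) : (joinImages A V).Normal := by
  refine normalizer_eq_top_iff.1 (eq_top_iff.2 ?_)
  refine le_trans ?_ (Subgroup.iInf_normalizer_le_normalizer_iSup
    (fun a : A => V.map (MulEquiv.toMonoidHom (a : MulAut S))))
  refine le_iInf fun a => ?_
  haveI := hV.map (MulEquiv.toMonoidHom (a : MulAut S)) (a : MulAut S).surjective
  exact (normalizer_eq_top_iff.2 inferInstance).ge

theorem le_joinImages {S : Type*} [Group S] (A : Subgroup (MulAut S)) (V : Subgroup S) :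
    V ≤ joinImages A V := by
  refine le_iSup_of_le (⟨1, one_mem _⟩ : A) ?_
  exact fun v hv => ⟨v, hv, rfl⟩

theorem joinImages_invariant {S : Type*} [Group S] (A : Subgroup (MulAut S)) (V : Subgroup S)
    {a : MulAut S} (ha : a ∈ A) {x : S} (hx : x ∈ joinImages A V) : a x ∈ joinImages A V := by
  suffices h : joinImages A V ≤ (joinImages A V).comap (MulEquiv.toMonoidHom a) from h hx
  refine iSup_le fun b => ?_
  rintro _ ⟨v, hv, rfl⟩
  exact (le_iSup (fun c : A => V.map (MulEquiv.toMonoidHom (c : MulAut S))) (⟨a, ha⟩ * b))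
    ⟨v, hv, rfl⟩

/-- A subgroup over `T` lies in the maximal subgroup over `T` or is everything. -/
theorem le_or_top {T : Subgroup G} {M : Subgroup G} (hM : ∀ N : Subgroup G, IsCoatom N → T ≤ N → N = M)
    {H : Subgroup G} (hTH : T ≤ H) : H = ⊤ ∨ H ≤ M := by
  rcases eq_top_or_exists_le_coatom H with h | ⟨N, hN, hHN⟩
  · exact Or.inl h
  · exact Or.inr (hM N hN (hTH.trans hHN) ▸ hHN)

/-- **Pushing up: odd automorphisms of a Sylow 2-subgroup.** -/
theorem exists_invariant_normal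
    (hirr : ∀ S : Sylow 2 G, ∃! M : Subgroup G, IsCoatom M ∧ (S : Subgroup G) ≤ M)
    (hG : centralizer (Cfsg.pCore 2 G : Set G) ≤ Cfsg.pCore 2 G) (T : Sylow 2 G)
    (A : Subgroup (MulAut ↥(T : Subgroup G))) (hA : Odd (Nat.card A)) :
    ∃ U : Subgroup G, U ≠ ⊥ ∧ U.Normal ∧ U ≤ (T : Subgroup G) ∧
      ∀ a ∈ A, ∀ x : ↥(T : Subgroup G), (x : G) ∈ U →
        ((a x : ↥(T : Subgroup G)) : G) ∈ U := by
  obtain ⟨M, ⟨hMc, hTM⟩, hMuniq⟩ := hirr T
  have hM : ∀ N : Subgroup G, IsCoatom N → (T : Subgroup G) ≤ N → N = M :=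
    fun N h1 h2 => hMuniq N ⟨h1, h2⟩
  have hT : (T : Subgroup G) ≠ ⊥ := by
    intro e
    have hc : Cfsg.pCore 2 G = ⊥ := le_bot_iff.1 ((Core.pCore_le_sylow T).trans e.le)
    rw [hc] at hG
    refine hMc.1 (top_le_iff.1 fun g _ => ?_)
    rw [mem_bot.1 (hG (mem_centralizer_iff.2 fun y hy => by
      rw [mem_bot.1 (show y ∈ (⊥ : Subgroup G) from hy), one_mul, mul_one]) : g ∈ (⊥ : Subgroup G))]
    exact one_mem _
  by_cases hchar : ∃ C : Subgroup G, C ≤ (T : Subgroup G) ∧ C ≠ ⊥ ∧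
      (C.subgroupOf (T : Subgroup G)).Characteristic ∧ C.Normal
  · obtain ⟨C, hCT, hC, hch, hCn⟩ := hchar
    refine ⟨C, hC, hCn, hCT, fun a _ x hx => ?_⟩
    exact mem_subgroupOf.1 ((characteristic_iff_le_comap.1 hch a) (mem_subgroupOf.2 hx))
  push Not at hchar
  have hle : Cfsg.charNormalizersJoin (T : Subgroup G) ≤ M := by
    refine iSup_le fun ⟨C, hCT, hC, hch⟩ => ?_
    haveI := hch
    have hTN : (T : Subgroup G) ≤ normalizer (C : Set G) :=
      (Subgroup.normal_subgroupOf_iff_le_normalizer hCT).1 inferInstance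
    exact (le_or_top hM hTN).resolve_left fun e =>
      hchar C hCT hC hch (normalizer_eq_top_iff.1 e)
  have hne : Cfsg.charNormalizersJoin (T : Subgroup G) ≠ ⊤ := fun e =>
    hMc.1 (top_le_iff.1 (e ▸ hle))
  obtain ⟨𝓑, h𝓑, hdeg⟩ := S2980.result hG T hne
  have hCs : Cfsg.cStarOf 2 (T : Subgroup G) ≤ M := (Degree.cStar_le_join' T hT).trans hle
  obtain ⟨E₀, hE₀, hE₀M⟩ : ∃ E ∈ 𝓑, ¬ E ≤ M := by
    by_contra hno
    push Not at hno
    exact hMc.1 (top_le_iff.1 (h𝓑.2.2.2.1.ge.trans (sup_le hCs (sSup_le hno))))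
  set ℬ : Set (Subgroup G) := {F | ∃ t ∈ (T : Subgroup G), E₀.map cj[t] = F} with hℬ
  have hsub : ℬ ⊆ 𝓑 := by
    rintro _ ⟨t, -, rfl⟩
    exact h𝓑.2.1 E₀ hE₀ t
  have hcomp : ∀ (s t : G) (E : Subgroup G), (E.map cj[t]).map cj[s] = E.map cj[s * t] := fun s t E => by
    rw [Subgroup.map_map]
    congr 1
    ext x
    simp [mul_assoc]
  have hout : ∀ F ∈ ℬ, ¬ F ≤ M := by
    rintro _ ⟨t, ht, rfl⟩ h
    refine hE₀M fun e he => ?_
    have h1 : t * e * t⁻¹ ∈ M := h ⟨e, he, rfl⟩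
    have := mul_mem (mul_mem (inv_mem (hTM ht)) h1) (hTM ht)
    rwa [show t⁻¹ * (t * e * t⁻¹) * t = e by group] at this
  have o : Orbit T ℬ :=
    { hG := hG
      blk := fun E hE => h𝓑.1 E (hsub hE)
      out := fun E hE h => hout E hE (h.trans hCs)
      sub := fun E hE => NearComp.subnormal_of_structure h𝓑 (hsub hE)
      deg := fun E hE => hdeg E (hsub hE)
      comm := fun E hE F hF hne => h𝓑.2.2.1 E (hsub hE) F (hsub hF) hne
      conj := by
        rintro t ht _ ⟨s, hs, rfl⟩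
        exact ⟨t * s, mul_mem ht hs, (hcomp t s E₀).symm⟩
      trans := by
        rintro _ ⟨s, hs, rfl⟩ _ ⟨t, ht, rfl⟩
        exact ⟨t * s⁻¹, mul_mem ht (inv_mem hs), by rw [hcomp, inv_mul_cancel_right]⟩
      ne := ⟨_, ⟨1, one_mem _, rfl⟩⟩ }
  obtain ⟨D⟩ := o.exists_odata
  haveI := o.C_normal
  haveI := o.VT_normal
  have hpack := OData.pack D
  set W := joinImages A (orbVT T ℬ) with hW
  have hWD : W ≤ centralizer (orbVT T ℬ : Set ↥(T : Subgroup G)) := iSup_le fun a =>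
    image_le hpack (a : MulAut ↥(T : Subgroup G)) (Odd.of_dvd_nat hA (by
      rw [Subgroup.orderOf_coe]; exact orderOf_dvd_natCard a))
  set U := W.map (T : Subgroup G).subtype with hU
  have hVU : orbV ℬ ≤ U := fun v hv =>
    ⟨⟨v, o.V_le_T hv⟩, le_joinImages A _ (mem_orbVT.2 hv), rfl⟩
  refine ⟨U, ?_, ?_, map_subtype_le _, fun a ha x hx => ?_⟩
  · obtain ⟨E, hE⟩ := o.ne
    exact fun e => Baumann.Sub.WE_ne hG (o.sblock hE)
      (le_bot_iff.1 ((o.WE_le_V hE).trans (hVU.trans e.le)))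
  · have hTU : (T : Subgroup G) ≤ normalizer (U : Set G) := by
      haveI := joinImages_normal A o.VT_normal
      refine Subgroup.le_normalizer_iff.mpr fun t ht => ?_
      rintro _ ⟨w, hw, rfl⟩
      exact ⟨⟨t, ht⟩ * w * ⟨t, ht⟩⁻¹, Normal.conj_mem ‹_› w hw _, rfl⟩
    have hFU : ∀ F ∈ ℬ, F ≤ normalizer (U : Set G) := fun F hF => by
      refine Subgroup.le_normalizer_iff.mpr fun f hf => ?_
      rintro x hx
      have key : ∀ y ∈ U, f * y⁻¹ * f⁻¹ ∈ U := by
        rintro _ ⟨y, hy, rfl⟩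
        have hc : ∀ v ∈ orbV ℬ, v * (y : G) = y * v := fun v hv => congrArg Subtype.val
          (mem_centralizer_iff.1 (hWD hy) ⟨v, o.V_le_T hv⟩ (mem_orbVT.2 hv))
        have h1 : ⁅(y : G), f⁆ ∈ bWE 2 F := Degree.commutator_centralizes hG (o.sblock hF)
          (o.cent_normalizes y.2 hc hF)
          (mem_centralizer_iff.2 fun w hw => hc w (o.WE_le_V hF hw)) hf
        have h2 : (y : G)⁻¹ * ⁅(y : G), f⁆ ∈ U :=
          mul_mem (inv_mem ⟨y, hy, rfl⟩) (hVU (o.WE_le_V hF h1))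
        rw [commutatorElement_def, show (y : G)⁻¹ * ((y : G) * f * (y : G)⁻¹ * f⁻¹) =
          f * (y : G)⁻¹ * f⁻¹ by group] at h2
        exact h2
      have h3 := key x⁻¹ (inv_mem hx)
      rwa [inv_inv] at h3
    rcases le_or_top hM (le_sup_left : (T : Subgroup G) ≤ (T : Subgroup G) ⊔ sSup ℬ) with e | e
    · exact normalizer_eq_top_iff.1 (top_le_iff.1 (e ▸ sup_le hTU (sSup_le hFU)))
    · exact absurd ((le_sSup (show E₀.map cj[(1 : G)] ∈ ℬ from ⟨1, one_mem _, rfl⟩)).trans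
        (le_sup_right.trans e)) (hout _ ⟨1, one_mem _, rfl⟩)
  · obtain ⟨w, hw, e⟩ := hx
    obtain rfl : w = x := Subtype.ext e
    exact ⟨a w, joinImages_invariant A _ ha hw, rfl⟩

end Cfsg.Agent.PushOdd
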